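import Groth.Agent.RelDualCMLib.S2Bound
import Groth.Agent.S0319
import Groth.Agent.QGorLib.Reflexive

/-!
# Depth and reflexivity of the bottom cohomology of the relative dualizing complex
-/

set_option autoImplicit false
set_option linter.style.haveILetI false
set_option linter.unusedSectionVars false
set_option backward.isDefEq.respectTransparency false
set_option maxHeartbeats 1000000

universe u

open CategoryTheory CategoryTheory.Limits CategoryTheory.Pretriangulated
open scoped TensorProduct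
attribute [local instance] HasDerivedCategory.standard

noncomputable section

namespace Groth.Agent.RelDualCMLib

open DRingLib DCohLib ShriekAlgLib DualCxLib

/-- Depth two along an ideal from the vanishing of the first two `Ext` modules. -/
theorem two_le_idealDepth_of_ext {A : Type u} [CommRing A] [IsNoetherianRing A] (I : Ideal A) (M : Type u)
    [AddCommGroup M] [Module A M] [Module.Finite A M]
    (h : ∀ i : ℕ, i < 2 → Subsingleton (Abelian.Ext (ModuleCat.of A (A ⧸ I)) (ModuleCat.of A M) i)) :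
    2 ≤ LocCoh.idealDepth I M := by
  by_cases hIM : I • (⊤ : Submodule A M) = ⊤
  · rw [LocCoh.idealDepth, if_pos hIM]
    exact le_top
  obtain ⟨rs, hrs⟩ := Depth.exists_isMaxSeq (M := M) hIM
  have hd := Depth.idealDepth_eq_length hIM hrs
  obtain ⟨-, hn⟩ := (S0319.result A I M hIM rs.length).1 hd
  by_contra hlt
  rw [hd, not_le] at hlt
  haveI := h rs.length (by exact_mod_cast hlt)
  exact false_of_nontrivial_of_subsingleton (Abelian.Ext (ModuleCat.of A (A ⧸ I)) (ModuleCat.of A M) rs.length)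

variable {R A : Type u} [CommRing R] [CommRing A] [IsNoetherianRing R] [IsNoetherianRing A] [Algebra R A]
  {N : ℕ} {ψ : MvPolynomial (Fin N) R →ₐ[R] A} [DRing.HasLBaseChange (algebraMap R (MvPolynomial (Fin N) R))]
  {Rψ : Dual.D (MvPolynomial (Fin N) R) ⥤ Dual.D A}

/-- The bottom cohomology has depth at least two along a closed set of large grade. -/
theorem two_le_idealDepth_HD [Module.Flat R A] (hψ : Function.Surjective ψ) (adj : DRing.restrictD ψ.toRingHom ⊣ Rψ) (m : ℤ)
    (hlow : ∀ i, i < m → Subsingleton (Dual.HD A (relOmega Rψ) i)) (I : Ideal A)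
    (hI : ∀ q : PrimeSpectrum A, I ≤ q.asIdeal → (((N : ℤ) + m + 2).toNat : ℕ∞) ≤
      LocCoh.depth (Localization.AtPrime (q.asIdeal.comap ψ.toRingHom))
        (Localization.AtPrime (q.asIdeal.comap ψ.toRingHom))) :
    2 ≤ LocCoh.idealDepth I (Dual.HD A (relOmega Rψ) m) := by
  obtain ⟨-, hfin⟩ := shriekVia_self_bounded R A N ψ hψ Rψ adj
  haveI : Module.Finite A (Dual.HD A (relOmega Rψ) m) := hfin m
  let ω := relOmega Rψ
  let K := Dual.HD A ω m
  let T := ltTri (m + 1) ω
  have hT : T ∈ distTriang (Dual.D A) := ltTri_mem _ ω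
  haveI : T.obj₃.IsGE (m + 1) := (DerivedCategory.isGE_iff _ _).2 fun j hj => HD_ltTri₃_of_lt _ ω hj
  haveI : T.obj₁.IsLE m :=
    (DerivedCategory.isLE_iff _ _).2 fun j hj => HD_ltTri₁_of_le _ ω (by omega)
  haveI : T.obj₁.IsGE m := by
    refine (DerivedCategory.isGE_iff _ _).2 fun j hj => ?_
    haveI : Subsingleton ((DerivedCategory.homologyFunctor (ModuleCat.{u} A) j).obj T.obj₂) := hlow j hj
    haveI := (HD_ltTri₁_injective (m + 1) ω (j := j) (by omega)).subsingleton
    exact ModuleCat.isZero_of_subsingleton _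
  obtain ⟨Y, ⟨e₀⟩⟩ := DerivedCategory.exists_iso_singleFunctor_obj_of_isGE_of_isLE T.obj₁ m
  let eY := (((DerivedCategory.homologyFunctor (ModuleCat.{u} A) m).mapIso e₀).trans
    ((DerivedCategory.singleFunctorCompHomologyFunctorIso (ModuleCat.{u} A) m).app Y)).toLinearEquiv
  let eK := LinearEquiv.ofBijective _ (HD_ltTri₁_bijective (m + 1) ω (j := m) (by omega))
  let F := DerivedCategory.singleFunctor (ModuleCat.{u} A) m
  let e : T.obj₁ ≅ F.obj (ModuleCat.of A K) := e₀ ≪≫ F.mapIso (eY.symm.trans eK).toModuleIso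
  let eS : T.obj₁⟦m⟧ ≅ Dual.inD A (ModuleCat.of A K) :=
    (shiftFunctor (Dual.D A) m).mapIso e ≪≫
      ((DerivedCategory.singleFunctors (ModuleCat.{u} A)).shiftIso m 0 m (by simp)).app (ModuleCat.of A K)
  refine two_le_idealDepth_of_ext I K fun i hi => ?_
  let X := Dual.inD A (ModuleCat.of A (A ⧸ I))
  haveI hX : Subsingleton (X ⟶ T.obj₂⟦m + (i : ℤ)⟧) := by
    refine subsingleton_HK_relOmega hψ adj (A ⧸ I) ((N : ℤ) + m + 2).toNat (fun q hq => hI q ?_) (m + i) (by omega)
    have := Module.annihilator_le_of_mem_support hq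
    rwa [Ideal.annihilator_quotient] at this
  haveI hT₁ : Subsingleton (X ⟶ T.obj₁⟦m + (i : ℤ)⟧) := subsingleton_of_forall_eq 0 fun g => by
    obtain ⟨w, hw⟩ := Triangle.coyoneda_exact₂ _
      (inv_rot_of_distTriang _ (Triangle.shift_distinguished T hT (m + (i : ℤ)))) g (hX.elim _ _)
    haveI : DerivedCategory.TStructure.t.IsGE (T.obj₃⟦m + (i : ℤ)⟧) (1 - (i : ℤ)) :=
      DerivedCategory.TStructure.t.isGE_shift T.obj₃ (m + 1) (m + i) _ (by omega)
    haveI : DerivedCategory.TStructure.t.IsGE (T.obj₃⟦m + (i : ℤ)⟧⟦(-1 : ℤ)⟧) (2 - (i : ℤ)) :=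
      DerivedCategory.TStructure.t.isGE_shift _ (1 - (i : ℤ)) (-1) _ (by omega)
    haveI : DerivedCategory.IsLE X 0 :=
      inferInstanceAs (((DerivedCategory.singleFunctor (ModuleCat.{u} A) 0).obj _).IsLE 0)
    rw [hw, show w = 0 from DerivedCategory.TStructure.t.zero_of_isLE_of_isGE w 0 (2 - (i : ℤ)) (by omega)
      inferInstance (by assumption), Limits.zero_comp]
  let eI : T.obj₁⟦m + (i : ℤ)⟧ ≅ (Dual.inD A (ModuleCat.of A K))⟦(i : ℤ)⟧ :=
    (shiftFunctorAdd' (Dual.D A) m (i : ℤ) _ rfl).app T.obj₁ ≪≫ (shiftFunctor (Dual.D A) (i : ℤ)).mapIso eS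
  haveI : Subsingleton (X ⟶ (Dual.inD A (ModuleCat.of A K))⟦(i : ℤ)⟧) :=
    (eI.homToEquiv (Z := X)).symm.subsingleton
  exact (Abelian.Ext.homEquiv (n := i) (X := ModuleCat.of A (A ⧸ I)) (Y := ModuleCat.of A K)).injective.subsingleton

/-- The transcendence degree at a point of codimension at least two. -/
theorem trdeg_add_two_le {k C : Type u} [Field k] [CommRing C] [Algebra k C] [Algebra.FiniteType k C] (d : ℕ)
    (hd : ∀ P : PrimeSpectrum C, P.asIdeal ∈ minimalPrimes C → Order.coheight P = (d : ℕ∞)) (Q : PrimeSpectrum C)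
    (h2 : (2 : WithBot ℕ∞) ≤ ringKrullDim (Localization.AtPrime Q.asIdeal)) (t : ℕ)
    (ht : Algebra.trdeg k (C ⧸ Q.asIdeal) = t) : t + 2 ≤ d := by
  obtain ⟨a, ha, hl, -⟩ := DimFormulaLib.localDim_eq_height_add k C Q t ht
  rw [localDim_eq_of_coheight (k := k) d hd Q] at hl
  rw [IsLocalization.AtPrime.ringKrullDim_eq_height Q.asIdeal, ha] at h2
  have h3 : 2 ≤ a := by
    have h2' : ((2 : ℕ) : WithBot ℕ∞) ≤ ((a : ℕ) : WithBot ℕ∞) := h2
    exact_mod_cast h2'
  have h4 : d = a + t := by exact_mod_cast hl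
  omega

variable [Module.Flat R A] (hψ : Function.Surjective ψ) (adj : DRing.restrictD ψ.toRingHom ⊣ Rψ) (d : ℕ)
  (hdim : ∀ (p : PrimeSpectrum R) (P : PrimeSpectrum (p.asIdeal.Fiber A)),
    P.asIdeal ∈ minimalPrimes (p.asIdeal.Fiber A) → Order.coheight P = (d : ℕ∞))

include hψ adj hdim

/-- Reflexivity of the bottom cohomology of the relative dualizing complex when it is reflexive in fibre
codimension at most one. -/
theorem isReflexive_HD_of_S2
    (hS : ∀ p : PrimeSpectrum R, LocCoh.HasSk 2 (p.asIdeal.Fiber A) (p.asIdeal.Fiber A)) (I : Ideal A)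
    (hcod : ∀ (q : PrimeSpectrum A), I ≤ q.asIdeal → ∀ (p : PrimeSpectrum R) (Q : PrimeSpectrum (p.asIdeal.Fiber A)),
      q.asIdeal.comap (algebraMap R A) = p.asIdeal →
      Q.asIdeal.comap (Algebra.TensorProduct.includeRight : A →ₐ[R] p.asIdeal.Fiber A).toRingHom = q.asIdeal →
        (2 : WithBot ℕ∞) ≤ ringKrullDim (Localization.AtPrime Q.asIdeal))
    (hU : ∀ q : PrimeSpectrum A, ¬ I ≤ q.asIdeal → Module.IsReflexive (Localization.AtPrime q.asIdeal)
      (LocalizedModule q.asIdeal.primeCompl (Dual.HD A (relOmega Rψ) (-(d : ℤ))))) :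
    Module.IsReflexive A (Dual.HD A (relOmega Rψ) (-(d : ℤ))) := by
  haveI : Algebra.FiniteType R A := Algebra.FiniteType.of_surjective ψ hψ
  obtain ⟨-, hfin⟩ := shriekVia_self_bounded R A N ψ hψ Rψ adj
  let H := Dual.HD A (relOmega Rψ) (-(d : ℤ))
  haveI : Module.Finite A H := hfin _
  have hdepth : 2 ≤ LocCoh.idealDepth I H := by
    refine two_le_idealDepth_HD hψ adj _ (subsingleton_relOmega_of_lt_neg hψ adj d hdim) I fun q hq => ?_
    let p := PrimeSpectrum.comap (algebraMap R A) q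
    let Q := PrimeSpectrum.preimageEquivFiber R A p ⟨q, rfl⟩
    have hQ : Q.asIdeal.comap (Algebra.TensorProduct.includeRight : A →ₐ[R] p.asIdeal.Fiber A).toRingHom = q.asIdeal :=
      congrArg (fun z => z.1.asIdeal) ((PrimeSpectrum.preimageEquivFiber R A p).symm_apply_apply ⟨q, rfl⟩)
    obtain ⟨t, ht⟩ := DimFormulaLib.exists_nat_trdeg_quotient p.asIdeal.ResidueField (p.asIdeal.Fiber A) Q.asIdeal
    have := trdeg_add_two_le d (hdim p) Q (hcod q hq p Q rfl hQ) t ht
    exact le_trans (Nat.cast_le.2 (by omega)) (le_depth_of_fibre_trdeg hψ q p rfl Q hQ t ht)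
  refine QGorLib.isReflexive_of_off ?_ hU hdepth
  have hinj := (toEnd_HD_bijective_of_S2 hψ adj d hdim hS).1
  by_cases hIA : I • (⊤ : Submodule A A) = ⊤
  · rw [LocCoh.idealDepth, if_pos hIA]
    exact le_top
  have hIH : I • (⊤ : Submodule A H) ≠ ⊤ := fun h => by
    obtain ⟨r, hr, hr0⟩ := Submodule.exists_sub_one_mem_and_smul_eq_zero_of_fg_of_le_smul I ⊤
      Module.Finite.fg_top h.ge
    have h0 : r = 0 := hinj (LinearMap.ext fun x => by
      show r • x = (0 : A) • x
      rw [hr0 x Submodule.mem_top, zero_smul])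
    refine hIA ?_
    rw [h0, zero_sub] at hr
    rw [Ideal.smul_eq_mul, Ideal.mul_top, Ideal.eq_top_iff_one]
    simpa using I.neg_mem hr
  obtain ⟨rs, hl, hm, hw⟩ := (Depth.le_idealDepth_iff hIH 2).1 (by exact_mod_cast hdepth)
  obtain ⟨r, s, rfl⟩ := List.length_eq_two.1 hl
  have hreg : IsSMulRegular H r := ((RingTheory.Sequence.isWeaklyRegular_cons_iff H r [s]).1 hw).1
  rw [← Nat.cast_one, Depth.le_idealDepth_iff hIA 1]
  refine ⟨[r], rfl, fun x hx => hm x (by simp_all), ?_⟩
  refine (RingTheory.Sequence.isWeaklyRegular_cons_iff A r []).2 ⟨fun a b hab => hinj (LinearMap.ext fun x => ?_),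
    RingTheory.Sequence.IsWeaklyRegular.nil _ _⟩
  show a • x = b • x
  refine hreg (show r • a • x = r • b • x from ?_)
  rw [smul_smul, smul_smul]
  exact congrArg (· • x) hab

end Groth.Agent.RelDualCMLib
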