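import Groth.Agent.RelDualCMLib.Rings
import Groth.Agent.ShriekAlgLib.RelDualizing
import Groth.Agent.ShriekAlgLib.Grade
import Groth.Agent.DualCxLib.LocMain
import Groth.Agent.DualCxLib.TruncHD
import Groth.Agent.DualCxLib.EndModule

/-!
# Endomorphisms of the relative dualizing complex and of its bottom cohomology module
-/

set_option autoImplicit false
set_option linter.style.haveILetI false
set_option linter.unusedSectionVars false
set_option backward.isDefEq.respectTransparency false
set_option maxHeartbeats 1000000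

universe u

open CategoryTheory CategoryTheory.Limits CategoryTheory.Pretriangulated CochainComplex.HomComplex
attribute [local instance] HasDerivedCategory.standard

noncomputable section

namespace Groth.Agent.RelDualCMLib

open DRingLib DCohLib ShriekAlgLib DualCxLib

/-- Morphisms out of a K-projective complex as cohomology of the Hom complex. -/
theorem nonempty_hom_equiv_HD_homCx {P : Type u} [CommRing P] (X Y : DRing.Cx P) [X.IsKProjective] :
    Nonempty ((DRing.toD X ⟶ DRing.toD Y) ≃ₗ[P] Dual.HD P (DRing.toD (DRing.homCx X Y)) 0) := by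
  let C := DRing.homCx X Y
  let T := C.sc' (-1) 0 1
  let κ : LinearMap.ker (C.d 0 1).hom →ₗ[P] (DRing.toD X ⟶ DRing.toD Y) :=
    { toFun := fun z => DerivedCategory.Q.map (Cocycle.homOf (Cocycle.mk (z.1 : Cochain X Y 0) 1 rfl z.2))
      map_add' := fun z z' => by
        rw [← Functor.map_add]
        congr 1
      map_smul' := fun r z => by
        rw [RingHom.id_apply, ← Functor.map_smul]
        congr 1 }
  have hsurj : Function.Surjective κ := fun u => by
    obtain ⟨g, hg⟩ := (CochainComplex.IsKProjective.Qh_map_bijective X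
      ((HomotopyCategory.quotient (ModuleCat.{u} P) (ComplexShape.up ℤ)).obj Y)).2 u
    obtain ⟨f, rfl⟩ := (HomotopyCategory.quotient (ModuleCat.{u} P) (ComplexShape.up ℤ)).map_surjective g
    refine ⟨⟨Cochain.ofHom f, δ_ofHom f⟩, ?_⟩
    refine Eq.trans ?_ hg
    show DerivedCategory.Q.map _ = DerivedCategory.Q.map f
    exact congrArg DerivedCategory.Q.map (Cocycle.homOf_ofHom_eq_self f)
  have hker : LinearMap.ker κ = (LinearMap.range (C.d (-1) 0).hom).comap (LinearMap.ker (C.d 0 1).hom).subtype := by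
    ext z
    constructor
    · intro hz
      have h1 : (HomotopyCategory.quotient (ModuleCat.{u} P) (ComplexShape.up ℤ)).map
          (Cocycle.homOf (Cocycle.mk (z.1 : Cochain X Y 0) 1 rfl z.2)) = 0 :=
        (CochainComplex.IsKProjective.Qh_map_bijective X
          ((HomotopyCategory.quotient (ModuleCat.{u} P) (ComplexShape.up ℤ)).obj Y)).1
          ((show DerivedCategory.Qh.map ((HomotopyCategory.quotient (ModuleCat.{u} P) (ComplexShape.up ℤ)).map
            (Cocycle.homOf (Cocycle.mk (z.1 : Cochain X Y 0) 1 rfl z.2))) = 0 from LinearMap.mem_ker.1 hz).trans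
            (Functor.map_zero _ _ _).symm)
      let ho := HomotopyCategory.homotopyOfEq _ (0 : X ⟶ Y) (h1.trans (Functor.map_zero _ _ _).symm)
      refine ⟨Cochain.ofHomotopy ho, ?_⟩
      refine (δ_ofHomotopy ho).trans ?_
      rw [Cochain.ofHom_zero, sub_zero, Cocycle.cochain_ofHom_homOf_eq_coe]
      rfl
    · rintro ⟨β, hβ⟩
      show DerivedCategory.Qh.map ((HomotopyCategory.quotient _ _).map _) = 0
      rw [HomotopyCategory.eq_of_homotopy (Cocycle.homOf (Cocycle.mk (z.1 : Cochain X Y 0) 1 rfl z.2)) 0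
        ((Cochain.equivHomotopy _ _).symm ⟨β, by
          rw [Cocycle.cochain_ofHom_homOf_eq_coe, Cochain.ofHom_zero, add_zero]
          exact hβ.symm⟩), Functor.map_zero, Functor.map_zero]
  have hr : (LinearMap.range (C.d (-1) 0).hom).comap (LinearMap.ker (C.d 0 1).hom).subtype =
      LinearMap.range T.moduleCatToCycles := by
    ext ⟨z, hz⟩
    exact ⟨fun ⟨x, hx⟩ => ⟨x, Subtype.ext hx⟩, fun ⟨x, hx⟩ => ⟨x, congrArg Subtype.val hx⟩⟩
  exact ⟨(κ.quotKerEquivOfSurjective hsurj).symm.trans ((Submodule.quotEquivOfEq _ _ (hker.trans hr)).trans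
    (T.moduleCatHomologyIso.symm ≪≫ (C.homologyIsoSc' (-1) 0 1 (by simp) (by simp)).symm ≪≫
      ((DerivedCategory.homologyFunctorFactors (ModuleCat.{u} P) 0).app C).symm).toLinearEquiv)⟩

variable {R A : Type u} [CommRing R] [CommRing A] [IsNoetherianRing R] [Algebra R A] {N : ℕ}
  {ψ : MvPolynomial (Fin N) R →ₐ[R] A} [DRing.HasLBaseChange (algebraMap R (MvPolynomial (Fin N) R))]
  {Rψ : Dual.D (MvPolynomial (Fin N) R) ⥤ Dual.D A}

/-- The relative dualizing complex of a flat algebra has only scalar endomorphisms. -/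
theorem toEnd_relOmega_bijective [Module.Flat R A] (hψ : Function.Surjective ψ)
    (adj : DRing.restrictD ψ.toRingHom ⊣ Rψ) :
    Function.Bijective (fun a : A => a • 𝟙 (relOmega Rψ)) := by
  let P := MvPolynomial (Fin N) R
  letI := ψ.toRingHom.toAlgebra
  haveI : IsScalarTower R P A := .of_algebraMap_eq fun r => (ψ.commutes r).symm
  haveI : Module.Finite P A := Module.Finite.of_surjective (Algebra.linearMap P A) hψ
  let res := DRing.restrictD (algebraMap P A)
  let L := (DRing.LBaseChange (algebraMap R P)).obj (Dual.inD R R)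
  let V := Rψ.obj L
  suffices hV : Function.Bijective (fun a : A => a • 𝟙 V) by
    let S := shiftFunctor (Dual.D A) (N : ℤ)
    have h : Function.Bijective (fun a : A => S.map (a • 𝟙 V)) :=
      Function.Bijective.comp (show Function.Bijective (S.map : (V ⟶ V) → (S.obj V ⟶ S.obj V)) from
        ⟨S.map_injective, S.map_surjective⟩) hV
    have hS : (fun a : A => S.map (a • 𝟙 V)) = fun a : A => a • 𝟙 (S.obj V) :=
      funext fun a => by rw [Functor.map_smul, S.map_id]
    exact hS ▸ h
  obtain ⟨eL⟩ := ShriekAlgLib.nonempty_lbc_unit R P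
  haveI : (Dual.inD R R).IsGE 0 :=
    inferInstanceAs (((DerivedCategory.singleFunctor (ModuleCat.{u} R) 0).obj _).IsGE 0)
  haveI : L.IsGE 0 := DualCxLib.isGE_bcD R P (Dual.inD R R) 0
  obtain ⟨r⟩ := nonempty_restrictD_inD (algebraMap P A) (ModuleCat.of A A)
  obtain ⟨F, hF, ⟨eF⟩⟩ := ((DRingLib.isPerfect_iff _).1 (isPerfect_presentation R A N)).of_iso r.symm
  obtain ⟨eV⟩ := nonempty_res_coind A 0 (isCoind_of_adj adj L) eL.symm hF eF
  haveI := (dualCx_bdd hF).isKProjective projClass_fProj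
  obtain ⟨e₁⟩ := nonempty_hom_equiv_HD_homCx (dualCx F) (oneCx P)
  obtain ⟨e₂⟩ := DRingLib.nonempty_HD_inD ((ModuleCat.restrictScalars.{u} (algebraMap P A)).obj (ModuleCat.of A A))
  let Φ₀ : (res.obj V ⟶ L) ≃ₗ[P] (ModuleCat.restrictScalars.{u} (algebraMap P A)).obj (ModuleCat.of A A) :=
    (Linear.homCongr P eV (eL ≪≫ (singleQZeroIso (ModuleCat.of P P)).symm)).trans (e₁.trans
      (((DerivedCategory.homologyFunctor (ModuleCat.{u} P) 0).mapIso
        ((DerivedCategory.Q.mapIso (biDualIso hF.2)).symm ≪≫ eF ≪≫ r)).toLinearEquiv.trans e₂))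
  let Φ : (V ⟶ V) → A := fun f => Φ₀ ((adj.homEquiv V L).symm f)
  have hΦbij : Function.Bijective Φ := Φ₀.bijective.comp (adj.homEquiv V L).symm.bijective
  have hΦ : ∀ (p : P) (f : V ⟶ V), Φ (ψ p • f) = ψ p * Φ f := fun p f => by
    show (show A from Φ₀ ((adj.homEquiv V L).symm (ψ p • f))) =
      ψ p * (show A from Φ₀ ((adj.homEquiv V L).symm f))
    rw [adj.homEquiv_counit, adj.homEquiv_counit]
    erw [restrictD_map_smul ψ.toRingHom p f]
    erw [Linear.smul_comp, Φ₀.map_smul]
    rfl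
  obtain ⟨v, hv⟩ := hΦbij.2 1
  have hΦv : ∀ a : A, Φ (a • v) = a := fun a => by
    obtain ⟨p, rfl⟩ := hψ a
    rw [hΦ, hv, mul_one]
  exact DualCxLib.bijective_smul_id v
    ⟨fun a b h => by rw [← hΦv a, ← hΦv b]; exact congrArg Φ h, fun f => ⟨Φ f, hΦbij.1 (hΦv _)⟩⟩

/-- Maps into the relative dualizing complex vanish below the grade. -/
theorem subsingleton_HK_relOmega (hψ : Function.Surjective ψ) (adj : DRing.restrictD ψ.toRingHom ⊣ Rψ)
    (M : Type u) [AddCommGroup M] [Module A M] [Module.Finite A M] (c : ℕ)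
    (hc : ∀ q : PrimeSpectrum A, q ∈ Module.support A M → (c : ℕ∞) ≤
      LocCoh.depth (Localization.AtPrime (q.asIdeal.comap ψ.toRingHom))
        (Localization.AtPrime (q.asIdeal.comap ψ.toRingHom)))
    (k : ℤ) (hk : (N : ℤ) + k < c) : Subsingleton (HK (relOmega Rψ) k M) := by
  rcases subsingleton_or_nontrivial M with hM | hM
  · exact subsingleton_of_subsingleton _ _
  let P := MvPolynomial (Fin N) R
  letI := ψ.toRingHom.toAlgebra
  let L := (DRing.LBaseChange (algebraMap R P)).obj (Dual.inD R R)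
  obtain ⟨eU⟩ := ShriekAlgLib.nonempty_lbc_unit R P
  have hW : ShriekAlgLib.IsCoind (algebraMap P A) (Dual.inD P P) (Rψ.obj L) :=
    (ShriekAlgLib.isCoind_of_adj adj L).of_iso eU (Iso.refl _)
  obtain ⟨ε, hε⟩ := hW.shift ((N : ℤ) + k)
  let I : Ideal P := (Module.annihilator A M).comap (algebraMap P A)
  have hI : I ≠ ⊤ := Ideal.comap_ne_top _ fun h => not_subsingleton M
    (Module.annihilator_eq_top_iff.1 h)
  have hdepth : (c : ℕ∞) ≤ LocCoh.idealDepth I P := by
    refine (QGorLib.le_idealDepth_iff_forall c).2 fun Q hQ => ?_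
    rw [Depth.depth_localizedSelf]
    obtain ⟨q, hq⟩ : ∃ q : PrimeSpectrum A, q.asIdeal.comap ψ.toRingHom = Q.asIdeal :=
      ⟨⟨Q.asIdeal.map (algebraMap P A), Ideal.map_isPrime_of_surjective hψ
        (fun x hx => hQ (by
          show algebraMap P A x ∈ Module.annihilator A M
          rw [show algebraMap P A x = 0 from hx]; exact zero_mem _))⟩, by
        show (Q.asIdeal.map (algebraMap P A)).comap (algebraMap P A) = Q.asIdeal
        rw [Ideal.comap_map_of_surjective (algebraMap P A) (show Function.Surjective (algebraMap P A) from hψ),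
          ← RingHom.ker_eq_comap_bot]
        exact sup_eq_left.2 fun x hx => hQ (by
          show algebraMap P A x ∈ Module.annihilator A M
          rw [show algebraMap P A x = 0 from hx]; exact zero_mem _)⟩
    have hqs : q ∈ Module.support A M := Module.mem_support_iff_of_finite.2 fun a ha => by
      obtain ⟨x, rfl⟩ := hψ a
      have hx : x ∈ Q.asIdeal := hQ ha
      rw [← hq] at hx
      exact hx
    have h1 := hc q hqs
    have h2 : ∀ (I J : Ideal P) [I.IsPrime] [J.IsPrime], I = J →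
        LocCoh.depth (Localization.AtPrime I) (Localization.AtPrime I) =
          LocCoh.depth (Localization.AtPrime J) (Localization.AtPrime J) := by
      rintro I J _ _ rfl
      rfl
    rwa [h2 _ _ hq] at h1
  obtain ⟨r⟩ := nonempty_restrictD_inD (algebraMap P A) (ModuleCat.of A M)
  haveI := subsingleton_hom_inD_of_grade I hI ((ModuleCat.restrictScalars.{u} (algebraMap P A)).obj (ModuleCat.of A M))
    (fun a ha x => Module.mem_annihilator.1 (show algebraMap P A a ∈ Module.annihilator A M from ha) x)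
    c hdepth ((N : ℤ) + k) hk
  haveI : Subsingleton ((DRing.restrictD (algebraMap P A)).obj (Dual.inD A (ModuleCat.of A M)) ⟶
      (Dual.inD P P)⟦(N : ℤ) + k⟧) := (r.homFromEquiv.subsingleton_congr).2 inferInstance
  haveI := (hε (Dual.inD A (ModuleCat.of A M))).1.subsingleton
  exact (Linear.homCongr A (Iso.refl (Dual.inD A (ModuleCat.of A M)))
    ((shiftFunctorAdd' (Dual.D A) (N : ℤ) k ((N : ℤ) + k) rfl).app (Rψ.obj L)).symm).injective.subsingleton

/-- The bottom cohomology module of the relative dualizing complex has only scalar endomorphisms when the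
others are supported in large grade. -/
theorem toEnd_HD_bijective [IsNoetherianRing A] [Module.Flat R A] (hψ : Function.Surjective ψ)
    (adj : DRing.restrictD ψ.toRingHom ⊣ Rψ) (m : ℤ)
    (hlow : ∀ i, i < m → Subsingleton (Dual.HD A (relOmega Rψ) i))
    (hgr : ∀ j, m < j → ∀ q : PrimeSpectrum A, q ∈ Module.support A (Dual.HD A (relOmega Rψ) j) →
      (((N : ℤ) + j + 2).toNat : ℕ∞) ≤
        LocCoh.depth (Localization.AtPrime (q.asIdeal.comap ψ.toRingHom))
          (Localization.AtPrime (q.asIdeal.comap ψ.toRingHom))) :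
    Function.Bijective (fun a : A =>
      a • (LinearMap.id : Dual.HD A (relOmega Rψ) m →ₗ[A] Dual.HD A (relOmega Rψ) m)) := by
  obtain ⟨⟨a, b, hab⟩, hfin⟩ := shriekVia_self_bounded R A N ψ hψ Rψ adj
  let ω := relOmega Rψ
  let T := ltTri (m + 1) ω
  have hT : T ∈ distTriang (Dual.D A) := ltTri_mem _ ω
  have htop : ∀ i : ℤ, 0 ≤ i → i ≤ 1 → Subsingleton (T.obj₃ ⟶ ω⟦i⟧) := fun i hi hi' => by
    refine subsingleton_hom_of_HD ω i (b - m).toNat (m + 1) T.obj₃
      ((DerivedCategory.isGE_iff _ _).2 fun j hj => HD_ltTri₃_of_lt _ ω hj)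
      ((DerivedCategory.isLE_iff _ _).2 fun j hj => ?_) fun j hj _ => ?_
    · haveI : Subsingleton ((DerivedCategory.homologyFunctor (ModuleCat.{u} A) j).obj T.obj₂) :=
        hab j (Or.inr (by omega))
      haveI := (HD_ltTri₃_bijective (m + 1) ω (j := j) (by omega)).2.subsingleton
      exact ModuleCat.isZero_of_subsingleton _
    · haveI := hfin j
      haveI : Subsingleton (HK ω (i + j) ((DerivedCategory.homologyFunctor (ModuleCat.{u} A) j).obj T.obj₂)) :=
        subsingleton_HK_relOmega hψ adj (Dual.HD A ω j) ((N : ℤ) + j + 2).toNat (hgr j (by omega)) (i + j) (by omega)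
      exact (preEquiv ω (i + j) (LinearEquiv.ofBijective _
        (HD_ltTri₃_bijective (m + 1) ω (j := j) hj))).injective.subsingleton
  haveI hA : Subsingleton (T.obj₃ ⟶ ω) := subsingleton_shiftZero (htop 0 le_rfl (by norm_num))
  haveI hB : Subsingleton (T.obj₃⟦(-1 : ℤ)⟧ ⟶ ω) :=
    subsingleton_shiftZero (subsingleton_shift_neg_one 0 (htop (0 + 1) (by norm_num) le_rfl))
  haveI h3 : T.obj₃.IsGE (m + 1) := (DerivedCategory.isGE_iff _ _).2 fun j hj => HD_ltTri₃_of_lt _ ω hj
  haveI h1 : T.obj₁.IsLE m :=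
    (DerivedCategory.isLE_iff _ _).2 fun j hj => HD_ltTri₁_of_le _ ω (by omega)
  haveI h1' : T.obj₁.IsGE m := by
    refine (DerivedCategory.isGE_iff _ _).2 fun j hj => ?_
    haveI : Subsingleton ((DerivedCategory.homologyFunctor (ModuleCat.{u} A) j).obj T.obj₂) := hlow j hj
    haveI := (HD_ltTri₁_injective (m + 1) ω (j := j) (by omega)).subsingleton
    exact ModuleCat.isZero_of_subsingleton _
  haveI : DerivedCategory.TStructure.t.IsGE (T.obj₃⟦(-1 : ℤ)⟧) (m + 2) :=
    DerivedCategory.TStructure.t.isGE_shift T.obj₃ (m + 1) (-1) _ (by omega)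
  haveI hC : Subsingleton (T.obj₁ ⟶ T.obj₃⟦(-1 : ℤ)⟧) := subsingleton_of_forall_eq 0 fun g =>
    DerivedCategory.TStructure.t.zero_of_isLE_of_isGE g m (m + 2) (by omega) inferInstance inferInstance
  have hω := toEnd_relOmega_bijective hψ adj
  have hmono : ∀ x y : T.obj₁ ⟶ T.obj₁, x ≫ T.mor₁ = y ≫ T.mor₁ → x = y := fun x y hxy => by
    obtain ⟨w, hw⟩ := Triangle.coyoneda_exact₂ T.invRotate (inv_rot_of_distTriang _ hT) (x - y)
      (show (x - y) ≫ T.mor₁ = 0 by rw [Preadditive.sub_comp, hxy, sub_self])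
    rw [show w = 0 from hC.elim _ _, Limits.zero_comp] at hw
    exact sub_eq_zero.1 hw
  have hend : Function.Bijective (fun a : A => a • 𝟙 T.obj₁) := by
    refine ⟨fun a b hab => hω.1 (sub_eq_zero.1 ?_), fun f => ?_⟩
    · obtain ⟨w, hw⟩ := Triangle.yoneda_exact₂ T hT (a • 𝟙 ω - b • 𝟙 ω) (by
        show T.mor₁ ≫ (a • 𝟙 T.obj₂ - b • 𝟙 T.obj₂) = 0
        rw [Preadditive.comp_sub, Linear.comp_smul, Linear.comp_smul, Category.comp_id, sub_eq_zero]
        have h' := congrArg (fun z => z ≫ T.mor₁) hab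
        simp only [Linear.smul_comp, Category.id_comp] at h'
        exact h')
      exact hw.trans (by rw [show w = 0 from hA.elim _ _, Limits.comp_zero])
    · obtain ⟨g, hg⟩ := Triangle.yoneda_exact₂ T.invRotate (inv_rot_of_distTriang _ hT) (f ≫ T.mor₁)
        (hB.elim _ _)
      obtain ⟨a, ha⟩ := hω.2 g
      refine ⟨a, hmono _ _ ?_⟩
      show (a • 𝟙 T.obj₁) ≫ T.mor₁ = f ≫ T.mor₁
      rw [hg, ← ha]
      show (a • 𝟙 T.obj₁) ≫ T.mor₁ = T.mor₁ ≫ (a • 𝟙 T.obj₂)
      rw [Linear.smul_comp, Linear.comp_smul, Category.id_comp, Category.comp_id]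
  obtain ⟨hinj, hsurj⟩ := hend
  obtain ⟨Y, ⟨e₀⟩⟩ := DerivedCategory.exists_iso_singleFunctor_obj_of_isGE_of_isLE T.obj₁ m
  let eY := (((DerivedCategory.homologyFunctor (ModuleCat.{u} A) m).mapIso e₀).trans
    ((DerivedCategory.singleFunctorCompHomologyFunctorIso (ModuleCat.{u} A) m).app Y)).toLinearEquiv
  let eK := LinearEquiv.ofBijective _ (HD_ltTri₁_bijective (m + 1) ω (j := m) (by omega))
  let F := DerivedCategory.singleFunctor (ModuleCat.{u} A) m
  let K := Dual.HD A ω m
  let e : T.obj₁ ≅ F.obj (ModuleCat.of A K) := e₀ ≪≫ F.mapIso (eY.symm.trans eK).toModuleIso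
  let Φ : (K →ₗ[A] K) → (T.obj₁ ⟶ T.obj₁) := fun f => e.hom ≫ F.map (ModuleCat.ofHom f) ≫ e.inv
  have hΦ : ∀ r : A, Φ (r • LinearMap.id) = r • 𝟙 _ := fun r => by
    show e.hom ≫ F.map (r • 𝟙 (ModuleCat.of A K)) ≫ e.inv = _
    rw [Functor.map_smul, F.map_id, Linear.smul_comp, Linear.comp_smul, Category.id_comp, Iso.hom_inv_id]
  have hΦi : Function.Injective Φ := fun f g hfg =>
    congrArg ModuleCat.Hom.hom (F.map_injective ((cancel_mono e.inv).1 ((cancel_epi e.hom).1 hfg)))
  refine ⟨fun a b hab => hinj ((hΦ a).symm.trans ((congrArg Φ hab).trans (hΦ b))), fun f => ?_⟩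
  obtain ⟨a, ha⟩ := hsurj (Φ f)
  exact ⟨a, hΦi ((hΦ a).trans ha)⟩

end Groth.Agent.RelDualCMLib
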