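import Groth.Agent.RelDualCMLib.Converse
import Groth.Agent.RelDualCMLib.EndHD
import Groth.Agent.DimFormulaLib.Fibre
import Groth.Agent.DimFormulaLib.Converse
import Groth.Agent.DualCxLib.SkCrit
import Groth.Agent.ShriekAlgLib.FibreBound

/-!
# Supports of the cohomology of the relative dualizing complex for fibres with `(S₂)`
-/

set_option autoImplicit false
set_option linter.style.haveILetI false
set_option linter.unusedSectionVars false
set_option backward.isDefEq.respectTransparency false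
set_option maxHeartbeats 1000000

universe u

open CategoryTheory CategoryTheory.Limits
open scoped TensorProduct
attribute [local instance] HasDerivedCategory.standard Algebra.TensorProduct.rightAlgebra

noncomputable section

namespace Groth.Agent.RelDualCMLib

open DRingLib DCohLib ShriekAlgLib DualCxLib

section Field

variable {k C : Type u} [Field k] [CommRing C] [Algebra k C] [IsNoetherianRing C] [Algebra.FiniteType k C] {n : ℕ}
  {ψ : MvPolynomial (Fin n) k →ₐ[k] C} (hψ : Function.Surjective ψ)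
  [DRing.HasLBaseChange (algebraMap k (MvPolynomial (Fin n) k))]
  {Rψ : Dual.D (MvPolynomial (Fin n) k) ⥤ Dual.D C} (adj : DRing.restrictD ψ.toRingHom ⊣ Rψ)

/-- The transcendence degree at a prime is at most the common dimension of the components. -/
theorem trdeg_le_of_coheight (d : ℕ)
    (hd : ∀ P : PrimeSpectrum C, P.asIdeal ∈ minimalPrimes C → Order.coheight P = (d : ℕ∞)) (Q : PrimeSpectrum C)
    (t : ℕ) (ht : Algebra.trdeg k (C ⧸ Q.asIdeal) = t) : t ≤ d := by
  obtain ⟨P, hP, hPQ⟩ := Ideal.exists_minimalPrimes_le (bot_le : (⊥ : Ideal C) ≤ Q.asIdeal)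
  have h1 := DimFormulaLib.ringKrullDim_eq_trdeg k t ht
  rw [CatLib.ringKrullDim_quotient_eq_coheight] at h1
  have h2 : Order.coheight Q ≤ (d : ℕ∞) := hd ⟨P, hP.1.1⟩ hP ▸ Order.coheight_anti hPQ
  have h3 : Order.coheight Q = (t : ℕ∞) := by exact_mod_cast h1
  rw [h3] at h2
  exact_mod_cast h2

include hψ adj

/-- Supports of the cohomology of the dualizing complex when the ring has `(S₂)` and is equidimensional. -/
theorem exists_trdeg_le_of_mem_support (d : ℕ)
    (hd : ∀ P : PrimeSpectrum C, P.asIdeal ∈ minimalPrimes C → Order.coheight P = (d : ℕ∞))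
    (hS : LocCoh.HasSk 2 C C) (j : ℤ) (hj : j ≠ -(d : ℤ)) (Q : PrimeSpectrum C)
    (hQ : Q ∈ Module.support C (Dual.HD C (W Rψ) j)) :
    ∃ t : ℕ, Algebra.trdeg k (C ⧸ Q.asIdeal) = t ∧ (t : ℤ) + j + 2 ≤ 0 := by
  have hW := isDualizing_W hψ adj
  have hsupp : ∀ q : PrimeSpectrum C, q ∈ Module.support C C := fun q =>
    Module.mem_support_iff_of_finite.2 fun a ha => by
      have : a • (1 : C) = 0 := Module.mem_annihilator.1 ha 1
      rw [smul_eq_mul, mul_one] at this
      exact this ▸ q.asIdeal.zero_mem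
  have hsd : ∀ q : PrimeSpectrum C, Module.supportDim (Localization.AtPrime q.asIdeal)
      (LocalizedModule q.asIdeal.primeCompl C) = ringKrullDim (Localization.AtPrime q.asIdeal) := fun q =>
    Module.supportDim_self_eq_ringKrullDim (Localization.AtPrime q.asIdeal)
  have hmin : ∀ Q : PrimeSpectrum C, Q.asIdeal ∈ minimalPrimes C → dfn hW Q = -(d : ℤ) := fun P hP => by
    have h0 : ringKrullDim (Localization.AtPrime P.asIdeal) = ((0 : ℕ) : WithBot ℕ∞) := by
      rw [IsLocalization.AtPrime.ringKrullDim_eq_height P.asIdeal, Ideal.height_eq_zero_iff.2 hP]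
      rfl
    haveI : IsNoetherianRing (Localization.AtPrime P.asIdeal) :=
      IsLocalization.isNoetherianRing P.asIdeal.primeCompl _ ‹_›
    obtain ⟨-, hnz⟩ := dim_bounds hW (M := C) P 0 ((hsd P).trans h0)
    rw [Nat.cast_zero, sub_zero] at hnz
    by_contra hne
    obtain ⟨e⟩ := (model hW).nonempty_HD_equiv (dfn hW P)
    haveI := subsingleton_of_cm hψ adj P (CMFlatLib.cm_of_dim_zero h0.le) d (localDim_eq_of_coheight (k := k) d hd P)
      (dfn hW P) hne
    refine hnz fun y => ?_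
    obtain ⟨t, ht, ht'⟩ := (zeroAt_iff_subsingleton (p := P.asIdeal)).2 ‹Subsingleton (LocalizedModule P.asIdeal.primeCompl
      (Dual.HD C (W Rψ) (dfn hW P)))› (e y)
    exact ⟨t, ht, e.injective (by rw [map_smul, ht', map_zero])⟩
  have hδ : ∀ Q : PrimeSpectrum C, Q ∈ Module.support C C →
      (∀ Q' ∈ Module.support C C, Q' ≤ Q → Q' = Q) → dfn hW Q = -(d : ℤ) := fun Q _ hm =>
    hmin Q (PrimeSpectrum.isMin_iff.1 fun Q' hle => (hm Q' (hsupp Q') hle).ge)
  have h0 : ∀ m : PrimeSpectrum C, m.asIdeal.IsMaximal → dfn hW m = 0 := fun m hm => by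
    obtain ⟨e, he, -, P, -, hPm, hPe, hPmin⟩ := exists_supportDim_localized hW (M := C) m (hsupp m)
    have hP := hδ P (hsupp P) hPmin
    have htr : Algebra.trdeg k (C ⧸ P.asIdeal) = d := by
      obtain ⟨t, ht⟩ := DimFormulaLib.exists_nat_trdeg_quotient k C P.asIdeal
      have h1 := DimFormulaLib.ringKrullDim_eq_trdeg k t ht
      rw [CatLib.ringKrullDim_quotient_eq_coheight,
        hd P (PrimeSpectrum.isMin_iff.1 fun Q' hle => (hPmin Q' (hsupp Q') hle).ge)] at h1
      have h2 : d = t := by exact_mod_cast h1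
      rw [ht, h2]
    obtain ⟨-, hinf⟩ := DimFormulaLib.localDim_bounds k C m d
      (fun P' t _ _ ht => trdeg_le_of_coheight d hd P' t ht) ⟨P, hPm, htr⟩
    have hdim : ringKrullDim (Localization.AtPrime m.asIdeal) = (d : WithBot ℕ∞) := by
      rw [← hinf]
      refine le_antisymm (le_iInf fun m' => ?_) (iInf_le_of_le ⟨m.asIdeal, hm, le_rfl⟩ le_rfl)
      obtain ⟨m', hm', hle⟩ := m'
      obtain rfl : m.asIdeal = m' := hm.eq_of_le hm'.ne_top hle
      exact le_rfl
    rw [hsd m, hdim] at he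
    have : d = e := by exact_mod_cast he
    omega
  obtain ⟨h1, h2⟩ := (hasSk_iff_supportDim hW h0 d hδ 2 (by norm_num)).1 hS j hj
  obtain ⟨e⟩ := (model hW).nonempty_HD_equiv j
  have hQ' : Q ∈ Module.support C (HK (W Rψ) j C) := (not_zeroAt_iff_mem_support Q).1 fun hz =>
    (not_zeroAt_iff_mem_support Q).2 hQ fun y => by
      obtain ⟨t, ht, ht'⟩ := hz (e.symm y)
      exact ⟨t, ht, e.symm.injective (by rw [map_smul, ht', map_zero])⟩
  have hpos : 0 ≤ -j - (2 : ℤ) := by
    by_contra hneg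
    haveI := h1 (by push_cast; omega)
    exact (Module.notMem_support_iff.2 inferInstance) hQ'
  haveI := finite_HK_unit hW j
  obtain ⟨t, ht⟩ := DimFormulaLib.exists_nat_trdeg_quotient k C Q.asIdeal
  refine ⟨t, ht, ?_⟩
  have h3 : Module.supportDim C (C ⧸ Q.asIdeal) ≤ Module.supportDim C (HK (W Rψ) j C) := by
    refine Order.krullDim_le_of_strictMono (fun Q' => ⟨Q'.1, ?_⟩) fun _ _ hab => hab
    have := Module.annihilator_le_of_mem_support Q'.2
    rw [Ideal.annihilator_quotient] at this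
    exact Module.mem_support_mono (p := Q) (q := Q'.1) this hQ'
  replace h3 := h3.trans (h2 (by push_cast; omega))
  rw [Module.supportDim_quotient_eq_ringKrullDim, DimFormulaLib.ringKrullDim_eq_trdeg k t ht] at h3
  have h4 : t ≤ (-j - ((2 : ℕ) : ℤ)).toNat := by exact_mod_cast h3
  push_cast at h4
  omega

end Field

section Relative

variable {R A : Type u} [CommRing R] [CommRing A] [IsNoetherianRing R] [IsNoetherianRing A] [Algebra R A]
  [Module.Flat R A] {N : ℕ} {ψ : MvPolynomial (Fin N) R →ₐ[R] A}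

/-- Depth of affine space from the transcendence degree in the fibre. -/
theorem le_depth_of_fibre_trdeg (hψ : Function.Surjective ψ) (q : PrimeSpectrum A) (p : PrimeSpectrum R)
    (hp : q.asIdeal.comap (algebraMap R A) = p.asIdeal) (Q : PrimeSpectrum (p.asIdeal.Fiber A))
    (hQ : Q.asIdeal.comap (Algebra.TensorProduct.includeRight : A →ₐ[R] p.asIdeal.Fiber A).toRingHom = q.asIdeal)
    (t : ℕ) (ht : Algebra.trdeg p.asIdeal.ResidueField (p.asIdeal.Fiber A ⧸ Q.asIdeal) = t) :
    ((N - t : ℕ) : ℕ∞) ≤ LocCoh.depth (Localization.AtPrime (q.asIdeal.comap ψ.toRingHom))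
      (Localization.AtPrime (q.asIdeal.comap ψ.toRingHom)) := by
  haveI : q.asIdeal.LiesOver p.asIdeal := ⟨hp.symm⟩
  haveI : (q.asIdeal.comap ψ.toRingHom).LiesOver p.asIdeal := ⟨by
    rw [← hp]
    ext r
    show algebraMap R A r ∈ q.asIdeal ↔ ψ (algebraMap R _ r) ∈ q.asIdeal
    rw [ψ.commutes]⟩
  let e : (MvPolynomial (Fin N) R ⧸ q.asIdeal.comap ψ.toRingHom) ≃+* A ⧸ q.asIdeal :=
    RingEquiv.ofBijective (Ideal.quotientMap q.asIdeal ψ.toRingHom le_rfl)
      ⟨Ideal.quotientMap_injective, Ideal.quotientMap_surjective (H := le_rfl) hψ⟩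
  have h1 := DimFormulaLib.trdeg_eq_of_ringEquiv (RingEquiv.refl (R ⧸ p.asIdeal)) e (fun x => by
    obtain ⟨r, rfl⟩ := Ideal.Quotient.mk_surjective x
    exact (congrArg (Ideal.Quotient.mk q.asIdeal) (ψ.commutes r)).symm)
  exact le_depth_polynomial R N p.asIdeal _ t
    (h1.trans ((DimFormulaLib.trdeg_fibre p.asIdeal q.asIdeal Q.asIdeal hQ).symm.trans ht))

variable [DRing.HasLBaseChange (algebraMap R (MvPolynomial (Fin N) R))]
  {Rψ : Dual.D (MvPolynomial (Fin N) R) ⥤ Dual.D A} (hψ : Function.Surjective ψ)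
  (adj : DRing.restrictD ψ.toRingHom ⊣ Rψ) (d : ℕ)
  (hdim : ∀ (p : PrimeSpectrum R) (P : PrimeSpectrum (p.asIdeal.Fiber A)),
    P.asIdeal ∈ minimalPrimes (p.asIdeal.Fiber A) → Order.coheight P = (d : ℕ∞))

include hψ adj hdim

/-- No cohomology below minus the relative dimension. -/
theorem subsingleton_relOmega_of_lt_neg (i : ℤ) (hi : i < -(d : ℤ)) :
    Subsingleton (Dual.HD A (relOmega Rψ) i) := by
  let P := MvPolynomial (Fin N) R
  letI : Algebra P A := ψ.toRingHom.toAlgebra
  haveI : Algebra.FiniteType R A := Algebra.FiniteType.of_surjective ψ hψ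
  let L := (DRing.LBaseChange (algebraMap R P)).obj (Dual.inD R R)
  obtain ⟨eU⟩ := ShriekAlgLib.nonempty_lbc_unit R P
  have hW : ShriekAlgLib.IsCoind (algebraMap P A) (Dual.inD P P) (Rψ.obj L) :=
    (ShriekAlgLib.isCoind_of_adj adj L).of_iso eU (Iso.refl _)
  rw [← Module.support_eq_empty_iff (R := A), Set.eq_empty_iff_forall_notMem]
  intro q hq
  refine Module.notMem_support_iff.2 ?_ hq
  have hv : Subsingleton (LocalizedModule q.asIdeal.primeCompl (Dual.HD A (Rψ.obj L) ((N : ℤ) + i))) :=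
    ShriekAlgLib.subsingleton_localized_coind (P := P) (A := A) hψ hW q (N - d) (fun q' _ => by
    let p := PrimeSpectrum.comap (algebraMap R A) q'
    let Q := PrimeSpectrum.preimageEquivFiber R A p ⟨q', rfl⟩
    haveI : IsNoetherianRing (p.asIdeal.Fiber A) :=
      Algebra.FiniteType.isNoetherianRing p.asIdeal.ResidueField _
    obtain ⟨t, ht⟩ := DimFormulaLib.exists_nat_trdeg_quotient p.asIdeal.ResidueField (p.asIdeal.Fiber A) Q.asIdeal
    exact le_trans (Nat.cast_le.2 (by have := trdeg_le_of_coheight d (hdim p) Q t ht; omega))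
      (le_depth_of_fibre_trdeg hψ q' p rfl Q (congrArg (fun z => z.1.asIdeal)
        ((PrimeSpectrum.preimageEquivFiber R A p).symm_apply_apply ⟨q', rfl⟩)) t ht)) ((N : ℤ) + i) (by omega)
  let e : Dual.HD A (relOmega Rψ) i ≃ₗ[A] Dual.HD A (Rψ.obj L) ((N : ℤ) + i) :=
    (ShriekAlgLib.hdShiftIso A (Rψ.obj L) N i).toLinearEquiv
  exact ((IsLocalizedModule.mapEquiv q.asIdeal.primeCompl (LocalizedModule.mkLinearMap _ _)
    (LocalizedModule.mkLinearMap _ _) (Localization.AtPrime q.asIdeal) e).toEquiv.subsingleton_congr).2 hv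

/-- The higher cohomology lives in large grade. -/
theorem le_depth_of_mem_support_relOmega
    (hS : ∀ p : PrimeSpectrum R, LocCoh.HasSk 2 (p.asIdeal.Fiber A) (p.asIdeal.Fiber A))
    (j : ℤ) (hj : -(d : ℤ) < j) (q : PrimeSpectrum A) (hq : q ∈ Module.support A (Dual.HD A (relOmega Rψ) j)) :
    (((N : ℤ) + j + 2).toNat : ℕ∞) ≤ LocCoh.depth (Localization.AtPrime (q.asIdeal.comap ψ.toRingHom))
      (Localization.AtPrime (q.asIdeal.comap ψ.toRingHom)) := by
  classical
  haveI : Algebra.FiniteType R A := Algebra.FiniteType.of_surjective ψ hψ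
  let p := PrimeSpectrum.comap (algebraMap R A) q
  let Q := PrimeSpectrum.preimageEquivFiber R A p ⟨q, rfl⟩
  have hQ : Q.asIdeal.comap (Algebra.TensorProduct.includeRight : A →ₐ[R] p.asIdeal.Fiber A).toRingHom = q.asIdeal :=
    congrArg (fun z => z.1.asIdeal) ((PrimeSpectrum.preimageEquivFiber R A p).symm_apply_apply ⟨q, rfl⟩)
  haveI : IsNoetherianRing (p.asIdeal.Fiber A) := Algebra.FiniteType.isNoetherianRing p.asIdeal.ResidueField _
  obtain ⟨⟨a, b, hab⟩, -⟩ := shriekVia_self_bounded R A N ψ hψ Rψ adj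
  obtain ⟨i₀, hi₀, hmax⟩ : ∃ i₀, ¬ Subsingleton (LocalizedModule q.asIdeal.primeCompl (Dual.HD A (relOmega Rψ) i₀)) ∧
      ∀ i, ¬ Subsingleton (LocalizedModule q.asIdeal.primeCompl (Dual.HD A (relOmega Rψ) i)) → i ≤ i₀ := by
    refine Int.exists_greatest_of_bdd ⟨b, fun i hi => ?_⟩ ⟨j, fun h => Module.notMem_support_iff.2 h hq⟩
    by_contra hc
    haveI : Subsingleton (Dual.HD A (relOmega Rψ) i) := hab i (Or.inr (by omega))
    exact hi inferInstance
  obtain ⟨M, ψ', hψ', hP, Rψ', adj', -, -, h₃⟩ := exists_criterion hψ adj q p rfl Q hQ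
  have hge := hmax j (fun h => Module.notMem_support_iff.2 h hq)
  have hQs : Q ∈ Module.support (p.asIdeal.Fiber A) (Dual.HD _ (W Rψ') i₀) := by
    by_contra hns
    refine hi₀ (h₃ i₀ (fun i hi => ?_) (Module.notMem_support_iff.1 hns))
    by_contra hc
    have := hmax i hc
    omega
  obtain ⟨t, ht, htj⟩ := exists_trdeg_le_of_mem_support hψ' adj' d (hdim p) (hS p) i₀ (by omega) Q hQs
  exact le_trans (Nat.cast_le.2 (by omega)) (le_depth_of_fibre_trdeg hψ q p rfl Q hQ t ht)

/-- The bottom cohomology of the relative dualizing complex has only scalar endomorphisms. -/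
theorem toEnd_HD_bijective_of_S2
    (hS : ∀ p : PrimeSpectrum R, LocCoh.HasSk 2 (p.asIdeal.Fiber A) (p.asIdeal.Fiber A)) :
    Function.Bijective (fun a : A =>
      a • (LinearMap.id : Dual.HD A (relOmega Rψ) (-(d : ℤ)) →ₗ[A] Dual.HD A (relOmega Rψ) (-(d : ℤ)))) :=
  toEnd_HD_bijective hψ adj _ (subsingleton_relOmega_of_lt_neg hψ adj d hdim)
    (le_depth_of_mem_support_relOmega hψ adj d hdim hS)

end Relative

end Groth.Agent.RelDualCMLib
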