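import Groth.Agent.RelDualCMLib.Stalk
import Groth.Agent.RelDimLib.Local
import Groth.Agent.DCohLib.SuppOpen
import Groth.Agent.S11145
import Groth.Agent.DevLib.Closed
import Groth.Agent.TwistShriek.RHomO

/-!
# The upper shriek of the structure sheaf at Cohen–Macaulay points
-/

set_option autoImplicit false
set_option linter.style.haveILetI false
set_option linter.unusedSectionVars false
set_option backward.isDefEq.respectTransparency false
set_option maxHeartbeats 1000000

universe u

open CategoryTheory CategoryTheory.Limits AlgebraicGeometry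
attribute [local instance] HasDerivedCategory.standard

noncomputable section

namespace Groth.Agent.RelDualCMLib

open DRingLib DCohLib TwistShriek DimFormulaLib ShriekBridge

variable {X Y : Scheme.{u}} {f : X ⟶ Y} [IsNoetherian Y] [LocallyOfFiniteType f] [Flat f]
  {cp : DEt.Compactification f} [DCoh.HasRpush cp.fbar] {hc : DCoh.RpushPreservesQCoh cp.fbar}
  {a : DCoh.DQCoh Y ⥤ DCoh.DQCoh cp.Xbar}
  [∀ (U V : Scheme.{u}) (j : U ⟶ V) [IsOpenImmersion j], PreservesFiniteLimits (Scheme.Modules.restrictFunctor j)]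

/-- At a point where the morphism is Cohen–Macaulay of fibre dimension `e`, the upper shriek of the structure
sheaf has one cohomology module, in degree `-e`, flat over the base. -/
theorem stalks_of_cm (adj : DCoh.RpushQ cp.fbar hc ⊣ a) (O : DCoh.DQCoh Y)
    (hO : Nonempty (O.obj ≅ DCoh.inD Y (Coh.structureModule Y))) {x : X} (hx : MoreMor.IsCMAt f x) (e : ℕ)
    (he : FlatMor.fibreDimAt f x = (e : WithBot ℕ∞)) :
    (∀ i : ℤ, i ≠ -(e : ℤ) → Subsingleton ((DCoh.HD ((Dual3.shriekC cp a).obj O) i).presheaf.stalk x)) ∧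
      FlatMod.IsFlatOverAt f (DCoh.HD ((Dual3.shriekC cp a).obj O) (-(e : ℤ))) x := by
  obtain ⟨c⟩ := exists_chart f x
  haveI := isNoetherianRing_base c
  haveI := isNoetherianRing_total c
  haveI := ShriekBridge.flat_of_chart c
  obtain ⟨P⟩ := nonempty_pres c.A c.B
  obtain ⟨h1, h2⟩ := concentrated_of_cm P.hψ P.adj c.q c.p rfl c.Q c.comap_Q
    ((CMFlatLib.chart_isCMAt_iff c).1 hx).2 e (c.fibreDimAt_eq.symm.trans he)
  refine c.hq ▸ ⟨fun i hi => ?_, ?_⟩
  · obtain ⟨E, -⟩ := exists_stalk_chart adj O hO c P c.q i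
    haveI := h1 i hi
    exact E.toEquiv.subsingleton
  · obtain ⟨E, hE⟩ := exists_stalk_chart adj O hO c P c.q (-(e : ℤ))
    exact (isFlatOverAt_iff_chart c c.q _ E hE).2 h2

/-- Local dimensions of the fibres from the dimensions of their components. -/
theorem fibreDimAt_eq_of_components (f : X ⟶ Y) [LocallyOfFiniteType f] (d : ℕ)
    (hd : ∀ (y : Y) (Z : Set ↥(f.fiber y)), Z ∈ irreducibleComponents ↥(f.fiber y) →
      topologicalKrullDim ↥Z = (d : WithBot ℕ∞)) (x : X) : FlatMor.fibreDimAt f x = (d : WithBot ℕ∞) := by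
  haveI : LocallyOfFiniteType (f.fiberToSpecResidueField (f x)) := MorphismProperty.pullback_snd _ _ ‹_›
  exact (RelDimLib.forall_component_iff (k := Y.residueField (f x))
    (f.fiberToSpecResidueField (f x)) d).mp (hd (f x)) (f.asFiber x)

/-- Flatness from the Cohen–Macaulay points. -/
theorem flat_of_isCMAt (f : X ⟶ Y) (h : ∀ x : X, MoreMor.IsCMAt f x) : Flat f :=
  (Flat.iff_flat_stalkMap f).2 fun x => ((CMFlatLib.isCMAt_iff f x).1 (h x)).1

end Groth.Agent.RelDualCMLib
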