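import Groth.Agent.RelDualCMLib.Converse
import Groth.Agent.RelDualCMLib.Sheaf
import Groth.Agent.CMFlatLib.Locus

/-!
# Cohen–Macaulay points and the cohomology of the upper shriek of the structure sheaf
-/

set_option autoImplicit false
set_option linter.style.haveILetI false
set_option linter.unusedSectionVars false
set_option backward.isDefEq.respectTransparency false
set_option maxHeartbeats 1000000

universe u

open CategoryTheory CategoryTheory.Limits AlgebraicGeometry
attribute [local instance] HasDerivedCategory.standard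

noncomputable section

namespace Groth.Agent.RelDualCMLib

open DRingLib DCohLib TwistShriek DimFormulaLib ShriekBridge

variable {X Y : Scheme.{u}} {f : X ⟶ Y}

theorem subsingleton_stalk_of_isZero_restrict {M : X.Modules} {U : X.Opens} (h : IsZero (M.restrict U.ι))
    {x : X} (hx : x ∈ U) : Subsingleton (M.presheaf.stalk x) := by
  haveI := subsingleton_stalk_of_isZero h (⟨x, hx⟩ : (U : Scheme.{u}))
  exact @Equiv.subsingleton _ _
    ((Scheme.Modules.restrictStalkNatIso U.ι ⟨x, hx⟩).app M).addCommGroupIsoToAddEquiv.toEquiv.symm this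

theorem isZero_restrict_of_stalks {M : X.Modules} {U : X.Opens}
    (h : ∀ x ∈ U, Subsingleton (M.presheaf.stalk x)) : IsZero (M.restrict U.ι) := by
  refine isZero_of_stalks fun y => ?_
  haveI := h (U.ι y) y.2
  exact @Equiv.subsingleton _ _
    ((Scheme.Modules.restrictStalkNatIso U.ι y).app M).addCommGroupIsoToAddEquiv.toEquiv this

/-- The local dimension of a fibre is a natural number. -/
theorem exists_fibreDimAt_eq [LocallyOfFiniteType f] (x : X) :
    ∃ e : ℕ, FlatMor.fibreDimAt f x = (e : WithBot ℕ∞) := by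
  obtain ⟨c⟩ := exists_chart f x
  obtain ⟨d, -, -, -, hd, -⟩ := exists_min_localDim c.p.asIdeal.ResidueField (c.p.asIdeal.Fiber c.B) c.Q
  exact ⟨d, c.fibreDimAt_eq.trans hd⟩

variable [IsNoetherian Y] [LocallyOfFiniteType f] [Flat f]
  {cp : DEt.Compactification f} [DCoh.HasRpush cp.fbar] {hc : DCoh.RpushPreservesQCoh cp.fbar}
  {a : DCoh.DQCoh Y ⥤ DCoh.DQCoh cp.Xbar}
  [∀ (U V : Scheme.{u}) (j : U ⟶ V) [IsOpenImmersion j], PreservesFiniteLimits (Scheme.Modules.restrictFunctor j)]

/-- The upper shriek of the structure sheaf vanishes at no point. -/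
theorem exists_nontrivial_stalk (adj : DCoh.RpushQ cp.fbar hc ⊣ a) (O : DCoh.DQCoh Y)
    (hO : Nonempty (O.obj ≅ DCoh.inD Y (Coh.structureModule Y))) (x : X) :
    ∃ i : ℤ, ¬ Subsingleton ((DCoh.HD ((Dual3.shriekC cp a).obj O) i).presheaf.stalk x) := by
  obtain ⟨c⟩ := exists_chart f x
  haveI := isNoetherianRing_base c
  haveI := isNoetherianRing_total c
  haveI := ShriekBridge.flat_of_chart c
  obtain ⟨P⟩ := nonempty_pres c.A c.B
  obtain ⟨i, hi⟩ := exists_not_subsingleton P.hψ P.adj c.q c.p rfl c.Q c.comap_Q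
  obtain ⟨E, -⟩ := exists_stalk_chart adj O hO c P c.q i
  refine c.hq ▸ ⟨i, fun h => hi ?_⟩
  haveI := h
  exact E.toEquiv.symm.subsingleton

/-- Cohen–Macaulay points are the points near which exactly one cohomology sheaf survives. -/
theorem isCMAt_iff_concentrated (adj : DCoh.RpushQ cp.fbar hc ⊣ a) (O : DCoh.DQCoh Y)
    (hO : Nonempty (O.obj ≅ DCoh.inD Y (Coh.structureModule Y))) (x : X) :
    MoreMor.IsCMAt f x ↔ ∃ (U : X.Opens) (n : ℤ), x ∈ U ∧
      (∀ i : ℤ, i ≠ n → IsZero ((DCoh.HD ((Dual3.shriekC cp a).obj O) i).restrict U.ι)) ∧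
      ¬ IsZero ((DCoh.HD ((Dual3.shriekC cp a).obj O) n).restrict U.ι) := by
  haveI : IsLocallyNoetherian X := LocallyOfFiniteType.isLocallyNoetherian f
  haveI : LocallyOfFinitePresentation f := LocallyOfFinitePresentation.iff_locallyOfFiniteType.mpr ‹_›
  constructor
  · intro hx
    obtain ⟨e, he⟩ := exists_fibreDimAt_eq (f := f) x
    obtain ⟨V, hxV, hV⟩ := CMFlatLib.exists_nhd_isCMAt f x e hx he
    have hz : ∀ i : ℤ, i ≠ -(e : ℤ) → IsZero ((DCoh.HD ((Dual3.shriekC cp a).obj O) i).restrict V.ι) :=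
      fun i hi => isZero_restrict_of_stalks fun z hz => (stalks_of_cm adj O hO (hV z hz).1 e (hV z hz).2).1 i hi
    refine ⟨V, -(e : ℤ), hxV, hz, fun h => ?_⟩
    obtain ⟨i, hi⟩ := exists_nontrivial_stalk adj O hO x
    by_cases hie : i = -(e : ℤ)
    · exact hi (hie ▸ subsingleton_stalk_of_isZero_restrict h hxV)
    · exact hi (subsingleton_stalk_of_isZero_restrict (hz i hie) hxV)
  · rintro ⟨U, n, hxU, hz, -⟩
    obtain ⟨c⟩ := exists_chart f x
    haveI := isNoetherianRing_base c
    haveI := isNoetherianRing_total c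
    haveI := ShriekBridge.flat_of_chart c
    obtain ⟨P⟩ := nonempty_pres c.A c.B
    refine (CMFlatLib.chart_isCMAt_iff c).2
      ⟨(CMFlatLib.chart_flat_iff c).1 ((Flat.iff_flat_stalkMap f).1 ‹_› x), ?_⟩
    refine cm_of_nhd P.hψ P.adj c.q c.p rfl c.Q c.comap_Q n fun q' hq' i hi => ?_
    have hsp : c.j q' ⤳ x :=
      (((PrimeSpectrum.le_iff_specializes q' c.q).1 hq').map c.j.continuous).trans (specializes_of_eq c.hq)
    obtain ⟨E, -⟩ := exists_stalk_chart adj O hO c P q' i
    haveI := subsingleton_stalk_of_isZero_restrict (hz i hi) (hsp.mem_open U.isOpen hxU)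
    exact E.toEquiv.symm.subsingleton

end Groth.Agent.RelDualCMLib
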