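import Groth.Agent.RelDualCMLib.Stalk
import Groth.Agent.ShriekAlgLib.CMDualLoc
import Groth.Agent.FibreDepth.FibIso

/-!
# The upper shriek of the structure sheaf over a Cohen–Macaulay point
-/

set_option autoImplicit false
set_option linter.style.haveILetI false
set_option linter.unusedSectionVars false
set_option backward.isDefEq.respectTransparency false
set_option maxHeartbeats 1000000
set_option maxRecDepth 4000

universe u

open CategoryTheory CategoryTheory.Limits AlgebraicGeometry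
open scoped TensorProduct
attribute [local instance] HasDerivedCategory.standard MvPolynomial.algebraMvPolynomial

noncomputable section

namespace Groth.Agent.RelDualCMLib

open DRingLib DCohLib ShriekAlgLib DualCxLib TwistShriek DimFormulaLib ShriekBridge

section Algebraic

variable {R A : Type u} [CommRing R] [CommRing A] [IsNoetherianRing R] [Algebra R A] {n : ℕ}
  {ψ : MvPolynomial (Fin n) R →ₐ[R] A}

/-- Depth along a presentation, from the components through a point. -/
theorem le_depth_presentation_at (hψ : Function.Surjective ψ) (p : Ideal R) [p.IsPrime]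
    [LocCoh.IsCohenMacaulayLocalRing (Localization.AtPrime p)] (r : ℕ) (q : PrimeSpectrum A)
    (hr : ∀ q₀ : PrimeSpectrum A, q₀.asIdeal ∈ minimalPrimes A → q₀ ≤ q →
      Algebra.trdeg (R ⧸ q₀.asIdeal.under R) (A ⧸ q₀.asIdeal) ≤ (r : Cardinal.{u}))
    (hq : q.asIdeal.under R ≤ p) :
    ((n - r : ℕ) : ℕ∞) ≤ LocCoh.depth (Localization.AtPrime (q.asIdeal.comap ψ.toRingHom))
      (Localization.AtPrime (q.asIdeal.comap ψ.toRingHom)) := by
  obtain ⟨q₀, hq₀, hle⟩ := Ideal.exists_minimalPrimes_le (bot_le : (⊥ : Ideal A) ≤ q.asIdeal)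
  haveI : q₀.IsPrime := hq₀.1.1
  haveI : Algebra.FiniteType R A := Algebra.FiniteType.of_surjective ψ hψ
  have ht := hr ⟨q₀, inferInstance⟩ hq₀ hle
  obtain ⟨t, ht'⟩ := Cardinal.lt_aleph0.1 (ht.trans_lt (Cardinal.natCast_lt_aleph0 (n := r)))
  rw [ht'] at ht
  have htr : t ≤ r := by exact_mod_cast ht
  let Q₀ := q₀.comap ψ.toRingHom
  let Q := q.asIdeal.comap ψ.toRingHom
  haveI : Q₀.LiesOver (q₀.under R) := ⟨by
    ext x
    show algebraMap R A x ∈ q₀ ↔ ψ (algebraMap R _ x) ∈ q₀
    rw [ψ.commutes]⟩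
  let e : (MvPolynomial (Fin n) R ⧸ Q₀) ≃+* A ⧸ q₀ :=
    RingEquiv.ofBijective (Ideal.quotientMap q₀ ψ.toRingHom le_rfl)
      ⟨Ideal.quotientMap_injective, Ideal.quotientMap_surjective (H := le_rfl) hψ⟩
  have h1 := DimFormulaLib.trdeg_eq_of_ringEquiv (RingEquiv.refl (R ⧸ q₀.under R)) e (fun x => by
    obtain ⟨s, rfl⟩ := Ideal.Quotient.mk_surjective x
    exact (congrArg (Ideal.Quotient.mk q₀) (ψ.commutes s)).symm)
  have hQR : Q.under R ≤ p := fun x hx => hq (by
    show algebraMap R A x ∈ q.asIdeal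
    rw [← ψ.commutes]
    exact hx)
  haveI := isCohenMacaulayLocalRing_mvPolynomial_atPrime p n Q hQR
  calc ((n - r : ℕ) : ℕ∞) ≤ ((n - t : ℕ) : ℕ∞) := Nat.cast_le.2 (by omega)
    _ ≤ LocCoh.depth (Localization.AtPrime Q₀) (Localization.AtPrime Q₀) :=
      le_depth_polynomial R n (q₀.under R) Q₀ t (h1.trans ht')
    _ ≤ Q₀.height := S14424.depth_at_le_height Q₀
    _ ≤ Q.height := Ideal.height_mono (Ideal.comap_mono hle)
    _ = _ := ((S14424.cm_iff_depth_eq_height Q).1 inferInstance).symm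

/-- Vanishing and Serre's condition in the bottom degree at one point over a Cohen–Macaulay point. -/
theorem vanishing_and_S2_at [IsNoetherianRing A] (hψ : Function.Surjective ψ)
    [DRing.HasLBaseChange (algebraMap R (MvPolynomial (Fin n) R))]
    {Rψ : Dual.D (MvPolynomial (Fin n) R) ⥤ Dual.D A} (adj : DRing.restrictD ψ.toRingHom ⊣ Rψ)
    (r : ℕ) (q : PrimeSpectrum A) (p : Ideal R) [p.IsPrime]
    [LocCoh.IsCohenMacaulayLocalRing (Localization.AtPrime p)] (hqp : q.asIdeal.under R ≤ p)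
    (hr : ∀ q₀ : PrimeSpectrum A, q₀.asIdeal ∈ minimalPrimes A → q₀ ≤ q →
      Algebra.trdeg (R ⧸ q₀.asIdeal.under R) (A ⧸ q₀.asIdeal) ≤ (r : Cardinal.{u})) :
    (∀ i : ℤ, i < -(r : ℤ) →
      Subsingleton (LocalizedModule q.asIdeal.primeCompl (Dual.HD A (Dual2.shriekVia n Rψ (Dual.inD R R)) i))) ∧
    Module.Finite (Localization.AtPrime q.asIdeal)
      (LocalizedModule q.asIdeal.primeCompl (Dual.HD A (Dual2.shriekVia n Rψ (Dual.inD R R)) (-(r : ℤ)))) ∧
    LocCoh.HasSk 2 (Localization.AtPrime q.asIdeal)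
      (LocalizedModule q.asIdeal.primeCompl (Dual.HD A (Dual2.shriekVia n Rψ (Dual.inD R R)) (-(r : ℤ)))) := by
  let P := MvPolynomial (Fin n) R
  letI : Algebra P A := ψ.toRingHom.toAlgebra
  let L := (DRing.LBaseChange (algebraMap R P)).obj (Dual.inD R R)
  obtain ⟨eU⟩ := ShriekAlgLib.nonempty_lbc_unit R P
  have hW : ShriekAlgLib.IsCoind (algebraMap P A) (Dual.inD P P) (Rψ.obj L) :=
    (ShriekAlgLib.isCoind_of_adj adj L).of_iso eU (Iso.refl _)
  have hc : ∀ q' : PrimeSpectrum A, q' ≤ q → ((n - r : ℕ) : ℕ∞) ≤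
      LocCoh.depth (Localization.AtPrime (q'.asIdeal.under P)) (Localization.AtPrime (q'.asIdeal.under P)) :=
    fun q' hle => le_depth_presentation_at hψ p r q' (fun q₀ h₀ h₀' => hr q₀ h₀ (h₀'.trans hle))
      ((Ideal.comap_mono hle).trans hqp)
  have hH : ∀ (i : ℤ) (q : PrimeSpectrum A), Nonempty
      (LocalizedModule q.asIdeal.primeCompl (Dual.HD A (Rψ.obj L) ((n : ℤ) + i)) ≃ₗ[Localization.AtPrime q.asIdeal]
        LocalizedModule q.asIdeal.primeCompl (Dual.HD A (Dual2.shriekVia n Rψ (Dual.inD R R)) i)) := fun i q =>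
    ⟨IsLocalizedModule.mapEquiv q.asIdeal.primeCompl (LocalizedModule.mkLinearMap _ _)
      (LocalizedModule.mkLinearMap _ _) (Localization.AtPrime q.asIdeal)
      (ShriekAlgLib.hdShiftIso A (Rψ.obj L) n i).toLinearEquiv.symm⟩
  have hvan : ∀ (i : ℤ), (n : ℤ) + i < ((n - r : ℕ) : ℤ) → ∀ q' : PrimeSpectrum A, q' ≤ q →
      Subsingleton (LocalizedModule q'.asIdeal.primeCompl (Dual.HD A (Dual2.shriekVia n Rψ (Dual.inD R R)) i)) :=
    fun i hi q' hq' => by
      obtain ⟨e⟩ := hH i q'
      haveI := ShriekAlgLib.subsingleton_localized_coind (P := P) hψ hW q' (n - r)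
        (fun q'' hq'' => hc q'' (hq''.trans hq')) ((n : ℤ) + i) hi
      exact e.symm.toEquiv.subsingleton
  have hfin : Module.Finite (Localization.AtPrime q.asIdeal)
      (LocalizedModule q.asIdeal.primeCompl (Dual.HD A (Dual2.shriekVia n Rψ (Dual.inD R R)) (-(r : ℤ)))) := by
    rcases Nat.lt_or_ge n r with hnr | hnr
    · haveI := hvan (-(r : ℤ)) (by omega) q le_rfl
      exact Module.Finite.of_finite
    haveI := ShriekAlgLib.isCohenMacaulayLocalRing_mvPolynomial_atPrime p n (q.asIdeal.under P) (fun x hx => by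
      refine hqp ?_
      show algebraMap R A x ∈ q.asIdeal
      rw [← ψ.commutes]
      exact hx)
    obtain ⟨hfin, -⟩ := ShriekAlgLib.min_supportDim_le_depth_localized_coind (P := P) hψ hW q (n - r) hc
    obtain ⟨e⟩ := hH (-(r : ℤ)) q
    rw [show ((n - r : ℕ) : ℤ) = (n : ℤ) + -(r : ℤ) by omega] at hfin
    haveI := hfin
    exact Module.Finite.equiv e
  refine ⟨fun i hi => hvan i (by omega) q le_rfl, hfin, fun 𝔮 _ => ?_⟩
  let q' : PrimeSpectrum A := PrimeSpectrum.comap (algebraMap A (Localization.AtPrime q.asIdeal)) ⟨𝔮, inferInstance⟩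
  have hle : q' ≤ q := fun x hx => by
    by_contra hxq
    exact (inferInstance : 𝔮.IsPrime).ne_top (Ideal.eq_top_of_isUnit_mem _ hx
      (IsLocalization.map_units (Localization.AtPrime q.asIdeal) (⟨x, hxq⟩ : q.asIdeal.primeCompl)))
  have hF := ShriekAlgLib.fibIso_localized_localized q.asIdeal.primeCompl
    (Dual.HD A (Dual2.shriekVia n Rψ (Dual.inD R R)) (-(r : ℤ))) 𝔮 q'.asIdeal rfl
  rcases Nat.lt_or_ge n r with hnr | hnr
  · haveI := hvan (-(r : ℤ)) (by omega) q' hle
    haveI := hF.subsingleton_iff.1 inferInstance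
    rw [Module.supportDim_eq_bot_of_subsingleton]
    exact (min_le_right _ _).trans bot_le
  haveI := ShriekAlgLib.isCohenMacaulayLocalRing_mvPolynomial_atPrime p n (q'.asIdeal.under P) (fun x hx => by
    refine ((Ideal.comap_mono hle).trans hqp) ?_
    show algebraMap R A x ∈ q'.asIdeal
    rw [← ψ.commutes]
    exact hx)
  obtain ⟨hfin', h⟩ := ShriekAlgLib.min_supportDim_le_depth_localized_coind (P := P) hψ hW q' (n - r)
    (fun q'' hq'' => hc q'' (hq''.trans hle))
  obtain ⟨e⟩ := hH (-(r : ℤ)) q'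
  rw [show ((n - r : ℕ) : ℤ) = (n : ℤ) + -(r : ℤ) by omega] at h hfin'
  rw [Module.supportDim_eq_of_equiv e, CAlgBasics.depth_congr e] at h
  haveI := hfin'
  haveI := Module.Finite.equiv e
  haveI := hF.module_finite
  rw [hF.supportDim_eq, hF.depth_eq] at h
  exact h

end Algebraic

/-- A semilinear identification with a localized module identifies the localizations. -/
theorem fibIso_of_semilinear {A T : Type u} [CommRing A] [CommRing T] (χ : A →+* T) (q : Ideal A) [q.IsPrime]
    (hT : letI := χ.toAlgebra; IsLocalization.AtPrime T q) {M N : Type u} [AddCommGroup M] [Module A M]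
    [AddCommGroup N] [Module T N] (E : N ≃+ LocalizedModule q.primeCompl M)
    (hE : ∀ (b : A) y, E (χ b • y) = b • E y) :
    FibreDepth.FibIso (Localization.AtPrime q) (LocalizedModule q.primeCompl M) T N := by
  letI := χ.toAlgebra
  haveI : IsLocalization q.primeCompl T := hT
  let φ : Localization.AtPrime q ≃ₐ[A] T := IsLocalization.algEquiv q.primeCompl _ _
  refine ⟨φ.toRingEquiv.toRingHom, φ.surjective, E.symm, fun z v => E.injective ?_⟩
  rw [AddEquiv.apply_symm_apply]
  obtain ⟨a, ⟨t, ht⟩, rfl⟩ := IsLocalization.exists_mk'_eq q.primeCompl z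
  have hu : IsUnit (algebraMap A (Localization.AtPrime q) t) :=
    IsLocalization.map_units _ (⟨t, ht⟩ : q.primeCompl)
  refine hu.smul_left_cancel.1 ?_
  show algebraMap A _ t • (IsLocalization.mk' (Localization.AtPrime q) a ⟨t, ht⟩ • v) =
    algebraMap A _ t • E (φ (IsLocalization.mk' (Localization.AtPrime q) a ⟨t, ht⟩) • E.symm v)
  rw [smul_smul, IsLocalization.mk'_spec'_mk, algebraMap_smul, algebraMap_smul, ← hE, smul_smul]
  show a • v = E ((algebraMap A T t * φ (IsLocalization.mk' (Localization.AtPrime q) a ⟨t, ht⟩)) • E.symm v)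
  rw [← φ.commutes t, ← map_mul, IsLocalization.mk'_spec'_mk, φ.commutes]
  exact ((hE a (E.symm v)).trans (by rw [AddEquiv.apply_symm_apply])).symm

section Shriek

variable {X Y : Scheme.{u}} {f : X ⟶ Y}

/-- The generic point of a component through a point of a chart. -/
theorem closure_mem_irreducibleComponents {x : X} (c : Chart f x) (P : PrimeSpectrum c.B)
    (hP : P.asIdeal ∈ minimalPrimes c.B) : closure ({c.j P} : Set X) ∈ irreducibleComponents X := by
  refine ⟨isIrreducible_singleton.closure, fun Z hZ hle => ?_⟩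
  have hg := hZ.isGenericPoint_genericPoint_closure
  have hsp : hZ.genericPoint ⤳ c.j P := hg.specializes (subset_closure (hle (subset_closure rfl)))
  obtain ⟨P', hP', hP'η⟩ := (c.move P).exists_le hsp
  have hPP : P' = P := le_antisymm hP' ((PrimeSpectrum.isMin_iff.2 hP) hP')
  refine subset_closure.trans ?_
  rw [← hg.def, ← hP'η, hPP]
  exact subset_rfl

variable [IsNoetherian Y] [LocallyOfFiniteType f]
  {cp : DEt.Compactification f} [DCoh.HasRpush cp.fbar] {hc : DCoh.RpushPreservesQCoh cp.fbar}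
  {a : DCoh.DQCoh Y ⥤ DCoh.DQCoh cp.Xbar}
  [∀ (U V : Scheme.{u}) (j : U ⟶ V) [IsOpenImmersion j], PreservesFiniteLimits (Scheme.Modules.restrictFunctor j)]

/-- The upper shriek of the structure sheaf over a Cohen–Macaulay point. -/
theorem shriek_over_CM_point (adj : DCoh.RpushQ cp.fbar hc ⊣ a) (O : DCoh.DQCoh Y)
    (hO : Nonempty (O.obj ≅ DCoh.inD Y (Coh.structureModule Y))) (x : X) (r : ℕ)
    (hCM : LocCoh.IsCohenMacaulayLocalRing (Y.presheaf.stalk (f x)))
    (htr : ∀ Z : Set X, Z ∈ irreducibleComponents X → x ∈ Z → ∀ ξ : X, closure ({ξ} : Set X) = Z →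
      Dual3.resTrdeg f ξ ≤ (r : Cardinal.{u})) :
    (∀ i : ℤ, Nontrivial ((DCoh.HD ((Dual3.shriekC cp a).obj O) i).presheaf.stalk x) → -(r : ℤ) ≤ i) ∧
      LocCoh.HasSk 2 (X.presheaf.stalk x) ((DCoh.HD ((Dual3.shriekC cp a).obj O) (-(r : ℤ))).presheaf.stalk x) := by
  obtain ⟨c⟩ := exists_chart f x
  haveI := isNoetherianRing_base c
  haveI := isNoetherianRing_total c
  obtain ⟨P⟩ := nonempty_pres c.A c.B
  haveI : LocCoh.IsCohenMacaulayLocalRing (Localization.AtPrime c.p.asIdeal) := by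
    letI : Algebra c.A (Y.presheaf.stalk (c.i c.p)) := (chartToStalk c.i c.p).toAlgebra
    haveI : IsLocalization.AtPrime (Y.presheaf.stalk (c.i c.p)) c.p.asIdeal := isLocalization_chartToStalk c.i c.p
    haveI : LocCoh.IsCohenMacaulayLocalRing (Y.presheaf.stalk (c.i c.p)) := c.hp ▸ hCM
    exact CMCat.isCohenMacaulayLocalRing_of_ringEquiv
      (IsLocalization.algEquiv c.p.asIdeal.primeCompl (Y.presheaf.stalk (c.i c.p)) _).toRingEquiv
  obtain ⟨h1, hfin, h2⟩ := vanishing_and_S2_at P.hψ P.adj r c.q c.p.asIdeal le_rfl fun q₀ hq₀ hle => by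
    have hz := closure_mem_irreducibleComponents c q₀ hq₀
    have hx : x ∈ closure ({c.j q₀} : Set X) := by
      rw [← specializes_iff_mem_closure]
      exact (((PrimeSpectrum.le_iff_specializes q₀ c.q).1 hle).map c.j.continuous).trans (specializes_of_eq c.hq)
    have h := htr _ hz hx (c.j q₀) rfl
    have he : resTrdegAt f (c.j q₀) = Algebra.trdeg (c.A ⧸ (c.move q₀).p.asIdeal) (c.B ⧸ (c.move q₀).q.asIdeal) :=
      (c.move q₀).resTrdegAt_self
    exact he ▸ h
  refine c.hq ▸ ⟨fun i hN => ?_, ?_⟩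
  · by_contra hi
    obtain ⟨E, -⟩ := exists_stalk_chart adj O hO c P c.q i
    haveI := h1 i (by omega)
    exact not_subsingleton_iff_nontrivial.2 hN E.toEquiv.subsingleton
  · obtain ⟨E, hE⟩ := exists_stalk_chart adj O hO c P c.q (-(r : ℤ))
    haveI := hfin
    exact ((fibIso_of_semilinear _ c.q.asIdeal (isLocalization_chartToStalk c.j c.q) E hE).hasSk_iff 2).1 h2

end Shriek

end Groth.Agent.RelDualCMLib
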