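import Groth.Agent.RelDualCMLib.Point
import Groth.Agent.ShriekAlgLib.Grade
import Groth.Agent.CMFlatLib.Locus
import Groth.Agent.DimFormulaLib.Field

/-!
# A dualizing complex with one cohomology module near a point makes the fibre Cohen–Macaulay
-/

set_option autoImplicit false
set_option linter.style.haveILetI false
set_option linter.unusedSectionVars false
set_option backward.isDefEq.respectTransparency false
set_option maxHeartbeats 1000000

universe u

open CategoryTheory CategoryTheory.Limits
open scoped TensorProduct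
attribute [local instance] HasDerivedCategory.standard Algebra.TensorProduct.rightAlgebra

noncomputable section

namespace Groth.Agent.RelDualCMLib

open DRingLib DCohLib ShriekAlgLib DualCxLib

/-- A component through a point whose dimension is the local dimension. -/
theorem exists_min_localDim (k C : Type u) [Field k] [CommRing C] [Algebra k C] [Algebra.FiniteType k C]
    (Q : PrimeSpectrum C) :
    ∃ (d : ℕ) (P : PrimeSpectrum C), IsMin P ∧ P ≤ Q ∧ FlatMor.localDim (PrimeSpectrum C) Q = d ∧
      FlatMor.localDim (PrimeSpectrum C) P = d := by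
  haveI : IsNoetherianRing C := Algebra.FiniteType.isNoetherianRing k C
  obtain ⟨r, hr⟩ := DimFormulaLib.exists_nat_trdeg_quotient k C Q.asIdeal
  obtain ⟨P, hPmin, hPQ, hPe⟩ := DimFormulaLib.exists_isMin_relHeight_eq_height Q
  obtain ⟨n, hn⟩ := DimFormulaLib.exists_nat_trdeg_quotient k C P.asIdeal
  obtain ⟨a, ha, hna⟩ := DimFormulaLib.trdeg_eq_relHeight_add k C hPQ n r hn hr
  obtain ⟨a', ha', hl, -⟩ := DimFormulaLib.localDim_eq_height_add k C Q r hr
  have haa : a' = a := by
    have h := ha'.symm.trans (hPe.symm.trans ha)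
    exact_mod_cast h
  refine ⟨n, P, hPmin, hPQ, by rw [hl, haa, hna], ?_⟩
  refine (DimFormulaLib.localDim_bounds k C P n (fun P' m hmin hle hm => ?_) ⟨P, le_rfl, hn⟩).1
  obtain rfl : P' = P := le_antisymm hle (hPmin hle)
  have : m = n := by exact_mod_cast hm.symm.trans hn
  exact this.le

variable {R A : Type u} [CommRing R] [CommRing A] [IsNoetherianRing R] [IsNoetherianRing A] [Algebra R A]
  [Module.Flat R A] {n : ℕ} {ψ : MvPolynomial (Fin n) R →ₐ[R] A} (hψ : Function.Surjective ψ)
  [DRing.HasLBaseChange (algebraMap R (MvPolynomial (Fin n) R))]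
  {Rψ : Dual.D (MvPolynomial (Fin n) R) ⥤ Dual.D A} (adj : DRing.restrictD ψ.toRingHom ⊣ Rψ)

include hψ adj

/-- The relative dualizing complex vanishes at no point. -/
theorem exists_not_subsingleton (q : PrimeSpectrum A) (p : PrimeSpectrum R)
    (hp : q.asIdeal.comap (algebraMap R A) = p.asIdeal) (Q : PrimeSpectrum (p.asIdeal.Fiber A))
    (hQ : Q.asIdeal.comap (Algebra.TensorProduct.includeRight : A →ₐ[R] p.asIdeal.Fiber A).toRingHom = q.asIdeal) :
    ∃ i, ¬ Subsingleton (LocalizedModule q.asIdeal.primeCompl (Dual.HD A (relOmega Rψ) i)) := by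
  haveI : Algebra.FiniteType R A := Algebra.FiniteType.of_surjective ψ hψ
  haveI : IsNoetherianRing (p.asIdeal.Fiber A) := Algebra.FiniteType.isNoetherianRing p.asIdeal.ResidueField _
  obtain ⟨N, ψ', hψ', hP, Rψ', adj', -, h₂, -⟩ := exists_criterion hψ adj q p hp Q hQ
  by_contra hc
  simp only [not_exists, not_not] at hc
  have hz : ∀ i, Subsingleton (LocalizedModule Q.asIdeal.primeCompl (Dual.HD (p.asIdeal.Fiber A) (W Rψ') i)) :=
    fun i => h₂ i (fun j _ => by
      haveI := hc j
      haveI : Subsingleton (RestrictScalars R A (LocalizedModule q.asIdeal.primeCompl (Dual.HD A (relOmega Rψ) j))) :=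
        ‹Subsingleton (LocalizedModule q.asIdeal.primeCompl (Dual.HD A (relOmega Rψ) j))›
      infer_instance) (hc i)
  have hW := isDualizing_W hψ' adj'
  obtain ⟨i₀, hi₀⟩ := exists_not_zeroAt_unit hW Q.asIdeal
  exact Module.notMem_support_iff.2 (hz i₀)
    ((not_zeroAt_iff_mem_support Q).1 ((not_zeroAt_HD_iff hW Q.asIdeal i₀).2 hi₀))

/-- If one degree carries all the cohomology near a point, the fibre is Cohen–Macaulay there. -/
theorem cm_of_nhd (q : PrimeSpectrum A) (p : PrimeSpectrum R) (hp : q.asIdeal.comap (algebraMap R A) = p.asIdeal)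
    (Q : PrimeSpectrum (p.asIdeal.Fiber A))
    (hQ : Q.asIdeal.comap (Algebra.TensorProduct.includeRight : A →ₐ[R] p.asIdeal.Fiber A).toRingHom = q.asIdeal)
    (m : ℤ) (h : ∀ q' : PrimeSpectrum A, q' ≤ q → ∀ i, i ≠ m →
      Subsingleton (LocalizedModule q'.asIdeal.primeCompl (Dual.HD A (relOmega Rψ) i))) :
    LocCoh.IsCohenMacaulayLocalRing (Localization.AtPrime Q.asIdeal) := by
  haveI : Algebra.FiniteType R A := Algebra.FiniteType.of_surjective ψ hψ
  let k := p.asIdeal.ResidueField
  let C := p.asIdeal.Fiber A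
  haveI : IsNoetherianRing C := Algebra.FiniteType.isNoetherianRing k C
  obtain ⟨d, P, hPmin, hPQ, hdQ, hdP⟩ := exists_min_localDim k C Q
  let ι : A →ₐ[R] C := Algebra.TensorProduct.includeRight
  let q' : PrimeSpectrum A := PrimeSpectrum.comap ι.toRingHom P
  have hq' : q' ≤ q := fun x hx => by
    rw [← hQ]
    exact (hPQ : P.asIdeal ≤ Q.asIdeal) hx
  have hp' : q'.asIdeal.comap (algebraMap R A) = p.asIdeal := by
    refine SetLike.ext fun x => ?_
    show ι (algebraMap R A x) ∈ P.asIdeal ↔ x ∈ p.asIdeal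
    rw [ι.commutes, IsScalarTower.algebraMap_apply R k C]
    refine Iff.trans ⟨fun hx => ?_, fun hx => by rw [hx, map_zero]; exact P.asIdeal.zero_mem⟩
      Ideal.algebraMap_residueField_eq_zero
    by_contra hne
    exact P.2.ne_top (Ideal.eq_top_of_isUnit_mem _ hx ((isUnit_iff_ne_zero.2 hne).map _))
  haveI : IsNoetherianRing (Localization.AtPrime P.asIdeal) :=
    IsLocalization.isNoetherianRing P.asIdeal.primeCompl _ ‹_›
  have hcmP : LocCoh.IsCohenMacaulayLocalRing (Localization.AtPrime P.asIdeal) := by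
    refine CMFlatLib.cm_of_dim_zero ?_
    rw [IsLocalization.AtPrime.ringKrullDim_eq_height P.asIdeal,
      Ideal.height_eq_zero_iff.2 (PrimeSpectrum.isMin_iff.1 hPmin)]
    exact le_rfl
  obtain ⟨hc, -⟩ := concentrated_of_cm hψ adj q' p hp' P rfl hcmP d hdP
  obtain ⟨i₀, hi₀⟩ := exists_not_subsingleton hψ adj q' p hp' P rfl
  have hm : m = -(d : ℤ) := by
    have h1 : i₀ = m := by
      by_contra hne
      exact hi₀ (h q' hq' i₀ hne)
    rw [← h1]
    by_contra hne
    exact hi₀ (hc i₀ hne)
  obtain ⟨N, ψ', hψ', hP, Rψ', adj', -, h₂, -⟩ := exists_criterion hψ adj q p hp Q hQ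
  have hW := isDualizing_W hψ' adj'
  have hz : ∀ i, i ≠ m → Subsingleton (LocalizedModule Q.asIdeal.primeCompl (Dual.HD C (W Rψ') i)) := by
    intro i hi
    rcases lt_or_gt_of_ne hi with hlt | hgt
    · haveI : AlgebraicGeometry.LocallyOfFiniteType
          (AlgebraicGeometry.Spec.map (CommRingCat.ofHom (algebraMap k C))) :=
        (AlgebraicGeometry.HasRingHomProperty.Spec_iff (P := @AlgebraicGeometry.LocallyOfFiniteType)).2
          (RingHom.finiteType_algebraMap.2 inferInstance)
      refine shriekVia_vanishing k C N ψ' hψ' Rψ' adj' Q d ?_ i (by omega)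
      rw [← DimFormulaLib.localDim_eq_fibreDimAt_of_subsingleton]
      exact hdQ.le
    · refine h₂ i (fun j hj => ?_) (h q le_rfl i hi)
      haveI := h q le_rfl j (by omega)
      haveI : Subsingleton (RestrictScalars R A (LocalizedModule q.asIdeal.primeCompl (Dual.HD A (relOmega Rψ) j))) :=
        ‹Subsingleton (LocalizedModule q.asIdeal.primeCompl (Dual.HD A (relOmega Rψ) j))›
      infer_instance
  obtain ⟨i₁, hi₁⟩ := exists_not_zeroAt_unit hW Q.asIdeal
  have hsupp := (not_zeroAt_iff_mem_support Q).1 ((not_zeroAt_HD_iff hW Q.asIdeal i₁).2 hi₁)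
  have huniq : ∀ i, Q ∈ Module.support C (Dual.HD C (W Rψ') i) → i = m := fun i hi => by
    by_contra hne
    exact (Module.notMem_support_iff.2 (hz i hne)) hi
  exact (cm_localization_iff hW Q).2 ⟨i₁, hsupp, fun i hi => (huniq i hi).trans (huniq _ hsupp).symm⟩

end Groth.Agent.RelDualCMLib
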