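import Groth.Agent.RelDualCMLib.FlatConc
import Groth.Agent.ShriekAlgLib.Poly
import Groth.Agent.DualCxLib.LocBound
import Groth.Agent.DRingLib.FlatBC
import Mathlib.Algebra.Homology.ShortComplex.ModuleCat

/-!
# Concentration of a complex from its closed fibre
-/

set_option autoImplicit false
set_option linter.style.haveILetI false
set_option linter.unusedSectionVars false
set_option backward.isDefEq.respectTransparency false
set_option maxHeartbeats 1000000

universe u

open CategoryTheory CategoryTheory.Limits TensorProduct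
attribute [local instance] HasDerivedCategory.standard

noncomputable section

namespace Groth.Agent.RelDualCMLib

open DRingLib DCohLib ShriekAlgLib

section Ext

variable (S C : Type u) [CommRing S] [CommRing C] [Algebra S C]

theorem extMap_apply {M N : ModuleCat.{u} S} (f : M ⟶ N) (t : C ⊗[S] M) :
    extendScalarsTensorEquiv S C N
        ((ModuleCat.extendScalars.{u, u, u} (algebraMap S C)).map f ((extendScalarsTensorEquiv S C M).symm t)) =
      f.hom.baseChange C t := by
  induction t using TensorProduct.induction_on with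
  | zero => simp
  | tmul c x => rfl
  | add x y hx hy => simp only [map_add, hx, hy]

/-- Divisibility of a class by the kernel of a surjection of rings. -/
theorem mem_smul_top_of_one_tmul_eq_zero (hC : Function.Surjective (algebraMap S C)) {M : Type u} [AddCommGroup M]
    [Module S M] {x : M} (hx : (1 : C) ⊗ₜ[S] x = 0) :
    x ∈ RingHom.ker (algebraMap S C) • (⊤ : Submodule S M) := by
  let e : (S ⧸ RingHom.ker (algebraMap S C)) ≃ₐ[S] C := Ideal.quotientKerAlgEquivOfSurjective (f := Algebra.ofId S C) hC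
  have h1 := congrArg (fun t => (TensorProduct.quotTensorEquivQuotSMul M (RingHom.ker (algebraMap S C)))
    (e.symm.toLinearMap.rTensor M t)) hx
  simp only [LinearMap.rTensor_tmul, map_zero, AlgEquiv.toLinearMap_apply, map_one,
    CAlgBasics.quotTensorEquivQuotSMul_one_tmul] at h1
  exact (Submodule.Quotient.mk_eq_zero _).1 h1

end Ext

/-- The homology of a complex of modules, in terms of cycles and boundaries. -/
theorem nonempty_hom'_equiv {S : Type u} [CommRing S] (L : DRing.Cx S) (j : ℤ) :
    Nonempty (Hom' (L := fun i => L.X i) (fun i => (L.d i (i + 1)).hom) j ≃ₗ[S]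
      Dual.HD S (DRing.toD L) (j + 1)) := by
  let T := L.sc' j (j + 1) (j + 1 + 1)
  have hr : (LinearMap.range (L.d j (j + 1)).hom).comap (LinearMap.ker (L.d (j + 1) (j + 1 + 1)).hom).subtype =
      LinearMap.range T.moduleCatToCycles := by
    ext ⟨z, hz⟩
    exact ⟨fun ⟨x, hx⟩ => ⟨x, Subtype.ext hx⟩, fun ⟨x, hx⟩ => ⟨x, congrArg Subtype.val hx⟩⟩
  exact ⟨(Submodule.quotEquivOfEq _ _ hr).trans
    (T.moduleCatHomologyIso.symm ≪≫ (L.homologyIsoSc' j (j + 1) (j + 1 + 1) (by simp) (by simp)).symm ≪≫
      ((DerivedCategory.homologyFunctorFactors (ModuleCat.{u} S) (j + 1)).app L).symm).toLinearEquiv⟩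

variable {R A : Type u} [CommRing R] [CommRing A] [IsNoetherianRing R] [IsNoetherianRing A] [Algebra R A]
  [Module.Flat R A]

/-- The closed fibre at a point, in terms of the localized cohomology. -/
theorem fibre_criterion (ω : Dual.D A) (b : ℤ) (hb : ∀ i, b < i → Subsingleton (Dual.HD A ω i))
    (hfin : ∀ i, Module.Finite A (Dual.HD A ω i)) (q : Ideal A) [q.IsPrime]
    (C : Type u) [CommRing C] [Algebra A C] [Algebra (Localization.AtPrime q) C]
    [IsScalarTower A (Localization.AtPrime q) C] [DRing.HasLBaseChange (algebraMap A C)]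
    (hC : Function.Surjective (algebraMap (Localization.AtPrime q) C))
    (hker : RingHom.ker (algebraMap (Localization.AtPrime q) C) =
      (q.comap (algebraMap R A)).map (algebraMap R (Localization.AtPrime q))) :
    (∀ m : ℤ, (∀ i, i ≠ m → Subsingleton (Dual.HD C ((DRing.LBaseChange (algebraMap A C)).obj ω) i)) →
      (∀ i, i ≠ m → Subsingleton (LocalizedModule q.primeCompl (Dual.HD A ω i))) ∧
        Module.Flat R (RestrictScalars R A (LocalizedModule q.primeCompl (Dual.HD A ω m)))) ∧
    (∀ i₀ : ℤ, (∀ i, i₀ < i → Module.Flat R (RestrictScalars R A (LocalizedModule q.primeCompl (Dual.HD A ω i)))) →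
      Subsingleton (LocalizedModule q.primeCompl (Dual.HD A ω i₀)) →
        Subsingleton (Dual.HD C ((DRing.LBaseChange (algebraMap A C)).obj ω) i₀)) ∧
    ∀ i₀ : ℤ, (∀ i, i₀ < i → Subsingleton (LocalizedModule q.primeCompl (Dual.HD A ω i))) →
      Subsingleton (Dual.HD C ((DRing.LBaseChange (algebraMap A C)).obj ω) i₀) →
        Subsingleton (LocalizedModule q.primeCompl (Dual.HD A ω i₀)) := by
  let p := q.comap (algebraMap R A)
  haveI : q.LiesOver p := ⟨rfl⟩
  let S := Localization.AtPrime q
  let Rp := Localization.AtPrime p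
  letI : Algebra Rp S := Localization.AtPrime.algebraOfLiesOver p q
  haveI : IsNoetherianRing S := IsLocalization.isNoetherianRing q.primeCompl S ‹_›
  haveI : IsNoetherianRing Rp := IsLocalization.isNoetherianRing p.primeCompl Rp ‹_›
  haveI : IsLocalHom (algebraMap Rp S) := by
    rw [Localization.AtPrime.IsLiesOverAlgebra.algebraMap_eq]
    infer_instance
  haveI : Module.Flat A S := IsLocalization.flat S q.primeCompl
  haveI : Module.Flat R S := Module.Flat.trans R A S
  haveI : Module.Flat Rp S := (Module.flat_iff_of_isLocalization Rp p.primeCompl _).2 inferInstance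
  have hz : AboveZero (b + 1) ω := fun i hi => by
    haveI := hb i (by omega)
    exact ModuleCat.isZero_of_subsingleton _
  obtain ⟨E, hEb, hEp, ⟨eE⟩⟩ := exists_proj_representative hz
  let L : DRing.Cx S := (DTen.extCx (algebraMap A S)).obj E
  haveI hLp : ∀ i, Module.Projective S (L.X i) := fun i => by
    haveI := hEp i
    exact Module.Projective.of_equiv (extendScalarsTensorEquiv A S (E.X i)).symm
  have hLb : DRing.VanishesAbove L b := fun i hi => (ModuleCat.extendScalars.{u, u, u} (algebraMap A S)).map_isZero (hEb i hi)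
  letI : ∀ i, Module Rp (L.X i) := fun i => Module.compHom _ (algebraMap Rp S)
  haveI : ∀ i, IsScalarTower Rp S (L.X i) := fun i =>
    IsScalarTower.of_algebraMap_smul fun r x => rfl
  have hfl : ∀ i, Module.Flat Rp (L.X i) := fun i => Module.Flat.trans Rp S (L.X i)
  haveI : DRing.HasLBaseChange (algebraMap A S) := DRingLib.hasLBaseChange _
  haveI : DRing.HasLBaseChange (algebraMap S C) := DRingLib.hasLBaseChange _
  let eL : (DRing.LBaseChange (algebraMap A S)).obj ω ≅ DRing.toD L :=
    (DRing.LBaseChange (algebraMap A S)).mapIso eE.symm ≪≫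
      lbcIso (algebraMap A S) E (isKFlat_of_projective hEb hEp)
  have eH : ∀ j, Nonempty (Hom' (L := fun i => L.X i) (fun i => (L.d i (i + 1)).hom) j ≃ₗ[S]
      LocalizedModule q.primeCompl (Dual.HD A ω (j + 1))) := fun j => by
    obtain ⟨e₁⟩ := nonempty_hom'_equiv L j
    obtain ⟨e₂⟩ := DualCxLib.nonempty_HD_lbc q.primeCompl S ω (j + 1)
    exact ⟨e₁.trans (((DerivedCategory.homologyFunctor (ModuleCat.{u} S) (j + 1)).mapIso eL.symm).toLinearEquiv.trans
      (e₂.trans (LocalizedModule.equivTensorProduct q.primeCompl (Dual.HD A ω (j + 1))).symm))⟩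
  have hHfin : ∀ j, Module.Finite S (Hom' (L := fun i => L.X i) (fun i => (L.d i (i + 1)).hom) j) := fun j => by
    obtain ⟨e⟩ := eH j
    haveI := hfin (j + 1)
    haveI : Module.Finite S (LocalizedModule q.primeCompl (Dual.HD A ω (j + 1))) :=
      Module.Finite.of_isLocalizedModule q.primeCompl (LocalizedModule.mkLinearMap q.primeCompl _)
    exact Module.Finite.equiv e.symm
  obtain ⟨ec⟩ := nonempty_lbc_comp' (algebraMap A S) (algebraMap S C) (algebraMap A C)
    (IsScalarTower.algebraMap_eq A S C).symm ω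
  let M : DRing.Cx C := (DTen.extCx (algebraMap S C)).obj L
  let eM : (DRing.LBaseChange (algebraMap A C)).obj ω ≅ DRing.toD M :=
    ec.symm ≪≫ (DRing.LBaseChange (algebraMap S C)).mapIso eL ≪≫
      lbcIso (algebraMap S C) L (isKFlat_of_projective hLb hLp)
  have hmI : ∀ (i : ℤ) (x : L.X i), x ∈ RingHom.ker (algebraMap S C) • (⊤ : Submodule S (L.X i)) ↔
      x ∈ IsLocalRing.maximalIdeal Rp • (⊤ : Submodule Rp (L.X i)) := fun i x => by
    rw [← mem_map_smul_top_iff (S := S), hker, ← Localization.AtPrime.map_eq_maximalIdeal, Ideal.map_map,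
      ← IsScalarTower.algebraMap_eq R Rp S]
  let T := fun i => extendScalarsTensorEquiv S C (L.X i)
  have hann : ∀ (i : ℤ) (y : L.X i), y ∈ IsLocalRing.maximalIdeal Rp • (⊤ : Submodule Rp (L.X i)) →
      (1 : C) ⊗ₜ[S] y = 0 := fun i y hy => by
    have := (hmI _ _).2 hy
    clear hy
    induction this using Submodule.smul_induction_on' with
    | smul r hr y _ => rw [TensorProduct.tmul_smul, ← algebraMap_smul C r, (RingHom.mem_ker).1 hr, zero_smul]
    | add y h₁ y' h₂ hy hy' =>
      rw [TensorProduct.tmul_add, hy, hy', add_zero]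
  have hiff : ∀ j, Subsingleton (Dual.HD C ((DRing.LBaseChange (algebraMap A C)).obj ω) (j + 1)) ↔
      ExMod (R := Rp) (L := fun i => L.X i) (fun i => (L.d i (i + 1)).hom) j := by
    intro j
    let eh := (DerivedCategory.homologyFunctor (ModuleCat.{u} C) (j + 1)).mapIso eM ≪≫
      (DerivedCategory.homologyFunctorFactors (ModuleCat.{u} C) (j + 1)).app M
    have hz0 : Subsingleton (Dual.HD C ((DRing.LBaseChange (algebraMap A C)).obj ω) (j + 1)) ↔
        M.ExactAt (j + 1) := by
      rw [HomologicalComplex.exactAt_iff_isZero_homology]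
      exact ⟨fun _ => (ModuleCat.isZero_of_subsingleton _).of_iso eh.symm,
        fun hh => ModuleCat.subsingleton_of_isZero (hh.of_iso eh)⟩
    rw [hz0, HomologicalComplex.exactAt_iff' M j (j + 1) (j + 1 + 1) (by simp) (by simp),
      ShortComplex.moduleCat_exact_iff]
    constructor
    · intro hx z hz'
      have hdz : (L.d (j + 1) (j + 1 + 1)).hom.baseChange C ((1 : C) ⊗ₜ[S] z) = 0 := by
        rw [LinearMap.baseChange_tmul]
        exact hann _ _ hz'
      obtain ⟨y, hy⟩ := hx ((T (j + 1)).symm ((1 : C) ⊗ₜ[S] z)) ((T (j + 1 + 1)).injective (by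
        rw [map_zero, ← hdz]
        exact extMap_apply S C _ _))
      obtain ⟨w, hw⟩ := TensorProduct.mk_surjective (R := S) (M := L.X j) (S := C) hC (T j y)
      refine ⟨w, (hmI _ _).1 (mem_smul_top_of_one_tmul_eq_zero S C hC ?_)⟩
      have hy' := congrArg (T (j + 1)) hy
      rw [LinearEquiv.apply_symm_apply, ← (T j).symm_apply_apply y, ← hw] at hy'
      have h2 := (extMap_apply S C (L.d j (j + 1)) ((1 : C) ⊗ₜ[S] w)).symm.trans hy'
      rw [LinearMap.baseChange_tmul] at h2
      rw [TensorProduct.tmul_sub, h2, sub_self]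
    · intro hE x hx
      obtain ⟨z, hz⟩ := TensorProduct.mk_surjective (R := S) (M := L.X (j + 1)) (S := C) hC (T (j + 1) x)
      have hx' : x = (T (j + 1)).symm ((1 : C) ⊗ₜ[S] z) :=
        (T (j + 1)).injective (by rw [LinearEquiv.apply_symm_apply]; exact hz.symm)
      have h1 : (1 : C) ⊗ₜ[S] (L.d (j + 1) (j + 1 + 1)).hom z = 0 := by
        rw [← LinearMap.baseChange_tmul]
        exact ((extMap_apply S C (L.d (j + 1) (j + 1 + 1)) ((1 : C) ⊗ₜ[S] z)).symm.trans
          ((congrArg (T (j + 1 + 1)) (by rw [hx'] at hx; exact hx)).trans (map_zero _)))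
      obtain ⟨w, hw⟩ := hE z ((hmI _ _).1 (mem_smul_top_of_one_tmul_eq_zero S C hC h1))
      refine ⟨(T j).symm ((1 : C) ⊗ₜ[S] w), (T (j + 1)).injective ?_⟩
      rw [hx', LinearEquiv.apply_symm_apply]
      refine (extMap_apply S C (L.d j (j + 1)) ((1 : C) ⊗ₜ[S] w)).trans ?_
      rw [LinearMap.baseChange_tmul]
      have h0 := hann _ _ hw
      rw [TensorProduct.tmul_sub, sub_eq_zero] at h0
      exact h0.symm
  have hflat : ∀ j, Module.Flat Rp (Hom' (L := fun i => L.X i) (fun i => (L.d i (i + 1)).hom) j) ↔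
      Module.Flat R (RestrictScalars R A (LocalizedModule q.primeCompl (Dual.HD A ω (j + 1)))) := fun j => by
    obtain ⟨e⟩ := eH j
    let N := RestrictScalars R A (LocalizedModule q.primeCompl (Dual.HD A ω (j + 1)))
    letI : Module Rp N := Module.compHom (LocalizedModule q.primeCompl (Dual.HD A ω (j + 1))) (algebraMap Rp S)
    haveI : IsScalarTower R Rp N := IsScalarTower.of_algebraMap_smul fun r x => by
      show algebraMap Rp S (algebraMap R Rp r) • (show LocalizedModule q.primeCompl (Dual.HD A ω (j + 1)) from x) =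
        algebraMap R A r • (show LocalizedModule q.primeCompl (Dual.HD A ω (j + 1)) from x)
      rw [← IsScalarTower.algebraMap_apply, IsScalarTower.algebraMap_apply R A S, algebraMap_smul S (algebraMap R A r)]
    let eN : Hom' (L := fun i => L.X i) (fun i => (L.d i (i + 1)).hom) j ≃ₗ[Rp] N :=
      { e.toAddEquiv with
        map_smul' := fun r x => by
          show e (r • x) = algebraMap Rp S r • e x
          rw [← algebraMap_smul S r x, map_smul] }
    rw [← Module.flat_iff_of_isLocalization Rp p.primeCompl N]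
    exact ⟨fun h => haveI := h; Module.Flat.of_linearEquiv eN.symm,
      fun h => haveI := h; Module.Flat.of_linearEquiv eN⟩
  have hd : ∀ (i : ℤ) (x : L.X i), (L.d (i + 1) (i + 1 + 1)).hom ((L.d i (i + 1)).hom x) = 0 := fun i x => by
    rw [← ModuleCat.comp_apply, L.d_comp_d]; rfl
  have hLs : ∀ i, b < i → Subsingleton (L.X i) := fun i hi => ModuleCat.subsingleton_of_isZero (hLb i hi)
  refine ⟨fun m h => ?_, fun i₀ hup hz₀ => ?_, fun i₀ hup hz₀ => ?_⟩
  · obtain ⟨h1, h2⟩ := concentrated_of_exMod (L := fun i => L.X i) (fun i => (L.d i (i + 1)).hom) hfl hd b hLs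
      hHfin m (fun j hj => (hiff j).1 (h _ hj))
    refine ⟨fun i hi => ?_, ?_⟩
    · obtain ⟨j, rfl⟩ : ∃ j, i = j + 1 := ⟨i - 1, by omega⟩
      obtain ⟨e⟩ := eH j
      haveI := h1 j hi
      exact e.symm.subsingleton
    · obtain ⟨j, rfl⟩ : ∃ j, m = j + 1 := ⟨m - 1, by omega⟩
      exact (hflat j).1 (h2 j rfl)
  · obtain ⟨j, rfl⟩ : ∃ j, i₀ = j + 1 := ⟨i₀ - 1, by omega⟩
    obtain ⟨e⟩ := eH j
    haveI : Subsingleton (Hom' (L := fun i => L.X i) (fun i => (L.d i (i + 1)).hom) j) := e.subsingleton
    exact (hiff j).2 (exMod_of_flat_above (L := fun i => L.X i) (fun i => (L.d i (i + 1)).hom) hfl hd b hLs j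
      fun i hi => (hflat i).2 (hup _ (by omega)))
  · obtain ⟨j, rfl⟩ : ∃ j, i₀ = j + 1 := ⟨i₀ - 1, by omega⟩
    obtain ⟨e⟩ := eH j
    haveI := hHfin j
    have hfab : ∀ i, j + 1 ≤ i → Module.Flat Rp (Hom' (L := fun i => L.X i) (fun i => (L.d i (i + 1)).hom) i) :=
      fun i hi => by
        obtain ⟨e'⟩ := eH i
        haveI := hup (i + 1) (by omega)
        haveI : Subsingleton (Hom' (L := fun i => L.X i) (fun i => (L.d i (i + 1)).hom) i) := e'.subsingleton
        infer_instance
    haveI := subsingleton_hom_of_exMod (L := fun i => L.X i) (fun i => (L.d i (i + 1)).hom) hfl hd j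
      (flat_range_of_flat_above (L := fun i => L.X i) (fun i => (L.d i (i + 1)).hom) hfl hd b hLs (j + 1) hfab
        (b - (j + 1)).toNat (j + 1) le_rfl (by omega))
      ((hiff j).1 hz₀)
    exact e.symm.subsingleton

end Groth.Agent.RelDualCMLib
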