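import Groth.Agent.RelDualCMLib.Rings
import Groth.Agent.ShriekAlgLib.GorFibre
import Groth.Agent.S2217

/-!
# Invertibility of the module of a concentrated relative dualizing complex
-/

set_option autoImplicit false
set_option linter.style.haveILetI false
set_option linter.unusedSectionVars false
set_option backward.isDefEq.respectTransparency false
set_option maxHeartbeats 1000000

universe u

open CategoryTheory CategoryTheory.Limits
open scoped TensorProduct
attribute [local instance] HasDerivedCategory.standard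

noncomputable section

namespace Groth.Agent.RelDualCMLib

open DRingLib DCohLib ShriekAlgLib DualCxLib

/-- An invertible module near a point where the localisation is free of rank one. -/
theorem exists_gen_of_tensor_equiv {B : Type u} [CommRing B] [IsNoetherianRing B] {H : Type u} [AddCommGroup H]
    [Module B H] [Module.Finite B H] (q : Ideal B) [q.IsPrime]
    (E : Localization.AtPrime q ⊗[B] H ≃ₗ[Localization.AtPrime q] Localization.AtPrime q) :
    ∃ (x : H) (s : B), s ∉ q ∧ (∀ l : H, ∃ c : B, s • l = c • x) ∧ ∀ b : B, b • x = 0 → s * b = 0 := by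
  let L := Localization.AtPrime q
  let M := q.primeCompl
  let ι := TensorProduct.mk B L H 1
  obtain ⟨⟨x, t⟩, hx⟩ := IsLocalizedModule.surj M ι (E.symm 1)
  have hxs : E (ι x) = algebraMap B L (t : B) := by
    rw [← hx, Submonoid.smul_def, ← algebraMap_smul L, map_smul, E.apply_symm_apply, smul_eq_mul, mul_one]
  have hu : IsUnit (algebraMap B L (t : B)) := IsLocalization.map_units L t
  let g := LinearMap.toSpanSingleton B H x
  obtain ⟨k, hk, hky⟩ : ∃ k ∉ q, ∀ r : LinearMap.ker g, k • r = 0 := by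
    refine exists_smul_eq_zero_of_finite q fun ⟨r, hr⟩ => ?_
    have hr' : r • x = 0 := hr
    have h1 : algebraMap B L r * algebraMap B L (t : B) = 0 := by
      rw [← hxs, ← smul_eq_mul, ← map_smul E, algebraMap_smul, ← map_smul ι, hr', map_zero, map_zero]
    obtain ⟨⟨w, hw⟩, hwr⟩ := (IsLocalization.map_eq_zero_iff M L r).1 (hu.mul_left_eq_zero.1 h1)
    exact ⟨w, hw, Subtype.ext hwr⟩
  obtain ⟨c, hc, hcy⟩ : ∃ c ∉ q, ∀ y : H ⧸ LinearMap.range g, c • y = 0 := by
    refine exists_smul_eq_zero_of_finite q fun y => ?_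
    obtain ⟨y, rfl⟩ := Submodule.Quotient.mk_surjective _ y
    obtain ⟨⟨r, w⟩, hrw⟩ := IsLocalization.surj M (E (ι y))
    have h2 : algebraMap B L ((w : B) * (t : B)) • ι y = algebraMap B L r • ι x := E.injective (by
      rw [map_smul, map_smul, hxs, smul_eq_mul, smul_eq_mul, map_mul, ← hrw]
      ring)
    rw [algebraMap_smul, algebraMap_smul, ← map_smul, ← map_smul] at h2
    obtain ⟨⟨v, hv⟩, hvy⟩ := (IsLocalizedModule.eq_iff_exists M ι).1 h2
    refine ⟨v * ((w : B) * (t : B)), M.mul_mem hv (M.mul_mem w.2 t.2), ?_⟩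
    refine (Submodule.Quotient.mk_eq_zero _).2 ⟨v * r, ?_⟩
    show (v * r) • x = (v * ((w : B) * (t : B))) • y
    rw [mul_smul, mul_smul]
    exact hvy.symm
  refine ⟨x, c * k, M.mul_mem hc hk, fun l => ?_, fun b hb => ?_⟩
  · obtain ⟨r, hr⟩ : c • l ∈ LinearMap.range g :=
      (Submodule.Quotient.mk_eq_zero _).1 (by rw [Submodule.Quotient.mk_smul]; exact hcy _)
    refine ⟨k * r, ?_⟩
    rw [mul_comm c, mul_smul, mul_smul]
    exact congrArg (k • ·) hr.symm
  · have h := congrArg Subtype.val (hky ⟨b, hb⟩)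
    simp only [SetLike.val_smul, smul_eq_mul, ZeroMemClass.coe_zero] at h
    rw [mul_assoc, h, mul_zero]

variable {R A : Type u} [CommRing R] [CommRing A] [IsNoetherianRing R] [IsNoetherianRing A] [Algebra R A]
  [Module.Flat R A] {N : ℕ} {ψ : MvPolynomial (Fin N) R →ₐ[R] A} (hψ : Function.Surjective ψ)
  [DRing.HasLBaseChange (algebraMap R (MvPolynomial (Fin N) R))]
  {Rψ : Dual.D (MvPolynomial (Fin N) R) ⥤ Dual.D A} (adj : DRing.restrictD ψ.toRingHom ⊣ Rψ)

include hψ adj in
/-- If the relative dualizing complex is concentrated in one degree, its module is invertible exactly when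
the fibres are Gorenstein. -/
theorem invertible_iff_gorenstein_fibres (m : ℤ) (h : ∀ i, i ≠ -m → Subsingleton (Dual.HD A (relOmega Rψ) i)) :
    Module.Invertible A (Dual.HD A (relOmega Rψ) (-m)) ↔
      ∀ p : PrimeSpectrum R, LocCoh.IsGorensteinRing (A ⊗[R] p.asIdeal.ResidueField) := by
  haveI hL : ∀ f : A, DRing.HasLBaseChange (algebraMap A (Localization.Away f)) := fun f => DRingLib.hasLBaseChange _
  obtain ⟨⟨a, b, hab⟩, hfin⟩ := shriekVia_self_bounded R A N ψ hψ Rψ adj
  rw [gorenstein_fibres_iff_invertible R A N ψ hψ Rψ adj]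
  constructor
  · intro hI q
    let Aq := Localization.AtPrime q.asIdeal
    haveI : DRing.HasLBaseChange (algebraMap A Aq) := DRingLib.hasLBaseChange _
    have h0 : ∀ i, i ≠ -m → Subsingleton (Dual.HD Aq ((DRing.LBaseChange (algebraMap A Aq)).obj (relOmega Rψ)) i) :=
      fun i hi => by
        obtain ⟨e⟩ := DualCxLib.nonempty_HD_lbc q.asIdeal.primeCompl Aq (relOmega Rψ) i
        haveI := h i hi
        exact e.injective.subsingleton
    obtain ⟨e⟩ := DualCxLib.nonempty_HD_lbc q.asIdeal.primeCompl Aq (relOmega Rψ) (-m)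
    obtain ⟨u⟩ : Nonempty (Aq ⊗[A] Dual.HD A (relOmega Rψ) (-m) ≃ₗ[Aq] Aq) := by
      haveI : Module.Invertible Aq (Aq ⊗[A] Dual.HD A (relOmega Rψ) (-m)) := inferInstance
      haveI : Module.Free Aq (Aq ⊗[A] Dual.HD A (relOmega Rψ) (-m)) := Module.free_of_flat_of_isLocalRing
      exact Module.Invertible.free_iff_linearEquiv.1 inferInstance
    obtain ⟨eA⟩ := nonempty_iso_inD_shift m (-m) (add_neg_cancel m) h0 (e.trans u)
    obtain ⟨f, hf, hff⟩ := exists_away_of_localization a b hab hfin q.asIdeal m eA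
    exact ⟨f, hf, m, hff⟩
  · intro hG
    haveI := hfin (-m)
    refine S2217.invertible_of_cover fun q hq => ?_
    haveI := hq.isPrime
    obtain ⟨f, hf, k, ⟨eI⟩⟩ := hG ⟨q, inferInstance⟩
    let Af := Localization.Away f
    let Aq := Localization.AtPrime q
    have hu : IsUnit (algebraMap A Aq f) := IsLocalization.map_units Aq (⟨f, hf⟩ : q.primeCompl)
    let χ : Af →+* Aq := IsLocalization.Away.lift f hu
    haveI : DRing.HasLBaseChange χ := DRingLib.hasLBaseChange _
    haveI : DRing.HasLBaseChange (algebraMap A Aq) := DRingLib.hasLBaseChange _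
    obtain ⟨c⟩ := nonempty_lbc_comp' (algebraMap A Af) χ (algebraMap A Aq) (IsLocalization.Away.lift_comp f hu)
      (relOmega Rψ)
    obtain ⟨v⟩ := nonempty_lbc_shift_unit χ k
    let eQ := c.symm ≪≫ (DRing.LBaseChange χ).mapIso eI ≪≫ v
    obtain ⟨e2⟩ := nonempty_HD_inD_shift (ModuleCat.of Aq Aq) k (-k) (add_neg_cancel k)
    have hk : k = m := by
      by_contra hne
      obtain ⟨e1⟩ := DualCxLib.nonempty_HD_lbc q.primeCompl Aq (relOmega Rψ) (-k)
      haveI := h (-k) (by omega)
      haveI : Subsingleton Aq := (e1.symm.trans (((DerivedCategory.homologyFunctor (ModuleCat.{u} Aq) (-k)).mapIso eQ).toLinearEquiv.trans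
        e2)).surjective.subsingleton
      exact zero_ne_one (Subsingleton.elim (0 : Aq) 1)
    subst hk
    obtain ⟨e1⟩ := DualCxLib.nonempty_HD_lbc q.primeCompl Aq (relOmega Rψ) (-k)
    exact exists_gen_of_tensor_equiv q (e1.symm.trans
      (((DerivedCategory.homologyFunctor (ModuleCat.{u} Aq) (-k)).mapIso eQ).toLinearEquiv.trans e2))

end Groth.Agent.RelDualCMLib
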