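import Groth.Agent.S1789
import Groth.Agent.TwistShriek.Amplitude
import Groth.Agent.TwistShriek.DualizingCM
import Groth.Agent.DualCxLib.CMLocus
import Groth.Agent.DimFormulaLib.LocalDim
import Groth.Agent.ShriekAlgLib.Dualizing

/-!
# The dualizing complex of an algebra of finite type over a field at Cohen–Macaulay points
-/

set_option autoImplicit false
set_option linter.style.haveILetI false
set_option linter.unusedSectionVars false
set_option backward.isDefEq.respectTransparency false
set_option maxHeartbeats 1000000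

universe u

open CategoryTheory CategoryTheory.Limits
attribute [local instance] HasDerivedCategory.standard

noncomputable section

namespace Groth.Agent.RelDualCMLib

open DRingLib DCohLib ShriekAlgLib DualCxLib

variable {k C : Type u} [Field k] [CommRing C] [Algebra k C] [IsNoetherianRing C] {n : ℕ}
  {ψ : MvPolynomial (Fin n) k →ₐ[k] C} (hψ : Function.Surjective ψ)
  [DRing.HasLBaseChange (algebraMap k (MvPolynomial (Fin n) k))]
  {Rψ : Dual.D (MvPolynomial (Fin n) k) ⥤ Dual.D C} (adj : DRing.restrictD ψ.toRingHom ⊣ Rψ)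

/-- The dualizing complex of the algebra. -/
abbrev W (Rψ : Dual.D (MvPolynomial (Fin n) k) ⥤ Dual.D C) : Dual.D C :=
  Dual2.shriekVia n Rψ (Dual.inD k k)

include hψ adj

theorem isDualizing_W : Dual.IsDualizing C (W Rψ) :=
  isDualizing_shriekVia k C n ψ hψ Rψ adj _ (TwistShriek.isDualizing_inD_of_isField (Field.toIsField k))

/-- The local ring at a maximal ideal, with its normalized dualizing complex. -/
theorem exists_normalized_maximal (m : Ideal C) [m.IsMaximal] :
    ∃ Ω : Dual.D (Localization.AtPrime m), Dual.IsDualizing (Localization.AtPrime m) Ω ∧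
      Dual.IsNormalized (Localization.AtPrime m) Ω ∧ ∀ i : ℤ, Nonempty (HK Ω i (Localization.AtPrime m) ≃
        LocalizedModule m.primeCompl (Dual.HD C (W Rψ) i)) := by
  haveI : DRing.HasLBaseChange (algebraMap C (Localization.AtPrime m)) := DRingLib.hasLBaseChange _
  have hm : m.comap (algebraMap k C) = IsLocalRing.maximalIdeal k := by
    rw [Ideal.eq_bot_of_prime (m.comap (algebraMap k C)), IsLocalRing.isField_iff_maximalIdeal_eq.1 (Field.toIsField k)]
  obtain ⟨h1, h2⟩ := S1789.result k C n ψ hψ Rψ adj m hm (Dual.inD k k)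
    (TwistShriek.isDualizing_inD_of_isField (Field.toIsField k))
    (fun i hi => TwistShriek.subsingleton_HK_inD_of_isField (Field.toIsField k) _ hi)
  refine ⟨_, h1, h2, fun i => ?_⟩
  haveI : IsNoetherianRing (Localization.AtPrime m) := IsLocalization.isNoetherianRing m.primeCompl _ ‹_›
  obtain ⟨e₁⟩ := (model h1).nonempty_HD_equiv i
  obtain ⟨e₂⟩ := nonempty_HD_lbc m.primeCompl (Localization.AtPrime m) (W Rψ) i
  exact ⟨e₁.toEquiv.trans (e₂.toEquiv.trans (LocalizedModule.equivTensorProduct m.primeCompl _).symm.toEquiv)⟩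

/-- At a Cohen–Macaulay closed point the complex is concentrated in minus the dimension. -/
theorem subsingleton_of_cm_maximal (m : Ideal C) [m.IsMaximal]
    (hCM : LocCoh.IsCohenMacaulayLocalRing (Localization.AtPrime m)) (e : ℕ)
    (he : ringKrullDim (Localization.AtPrime m) = e) (i : ℤ) (hi : i ≠ -(e : ℤ)) :
    Subsingleton (LocalizedModule m.primeCompl (Dual.HD C (W Rψ) i)) := by
  obtain ⟨Ω, hΩ, hn, hH⟩ := exists_normalized_maximal hψ adj m
  haveI := hCM
  haveI := hΩ.isNoetherianRing
  have hd : Module.supportDim (Localization.AtPrime m) (Localization.AtPrime m) = e := by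
    rw [Module.supportDim_self_eq_ringKrullDim, he]
  have h := (cm_iff hΩ hn (M := Localization.AtPrime m) hd).1 hCM.supportDim_eq_depth (-i) (by omega)
  rw [neg_neg] at h
  obtain ⟨ei⟩ := hH i
  exact ei.symm.subsingleton

/-- A closed point with one cohomology module is Cohen–Macaulay of that dimension. -/
theorem cm_of_subsingleton_maximal (m : Ideal C) [m.IsMaximal] (e : ℕ)
    (h : ∀ i : ℤ, i ≠ -(e : ℤ) → Subsingleton (LocalizedModule m.primeCompl (Dual.HD C (W Rψ) i))) :
    LocCoh.IsCohenMacaulayLocalRing (Localization.AtPrime m) ∧ ringKrullDim (Localization.AtPrime m) = e := by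
  obtain ⟨Ω, hΩ, hn, hH⟩ := exists_normalized_maximal hψ adj m
  haveI := hΩ.isNoetherianRing
  obtain ⟨d, hd⟩ : ∃ d : ℕ, Module.supportDim (Localization.AtPrime m) (Localization.AtPrime m) = d := by
    obtain ⟨d, hd, -⟩ := exists_supportDim_localized hΩ (M := Localization.AtPrime m)
      (IsLocalRing.closedPoint _) (IsLocalRing.closedPoint_mem_support _ _)
    exact ⟨d, supportDim_localized_maximal.symm.trans hd⟩
  have hde : d = e := by
    by_contra hne
    obtain ⟨ed⟩ := hH (-(d : ℤ))
    haveI := h (-(d : ℤ)) (by omega)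
    exact not_nontrivial_iff_subsingleton.2 ed.subsingleton (dim_bounds_local hΩ hn hd).2
  subst hde
  have hcm := (cm_iff hΩ hn (M := Localization.AtPrime m) hd).2 fun i hi => by
    obtain ⟨ei⟩ := hH (-i)
    haveI := h (-i) (by omega)
    exact ei.subsingleton
  exact ⟨{ supportDim_eq_depth := hcm }, by rw [← Module.supportDim_self_eq_ringKrullDim, hd]⟩

/-- At a Cohen–Macaulay point the complex is concentrated in minus the local dimension. -/
theorem subsingleton_of_cm [Algebra.FiniteType k C] (Q : PrimeSpectrum C)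
    (hCM : LocCoh.IsCohenMacaulayLocalRing (Localization.AtPrime Q.asIdeal)) (e : ℕ)
    (he : FlatMor.localDim (PrimeSpectrum C) Q = e) (i : ℤ) (hi : i ≠ -(e : ℤ)) :
    Subsingleton (LocalizedModule Q.asIdeal.primeCompl (Dual.HD C (W Rψ) i)) := by
  rw [← Module.notMem_support_iff]
  intro hQi
  haveI : IsJacobsonRing C := isJacobsonRing_of_finiteType (A := k)
  have hW := isDualizing_W hψ adj
  obtain ⟨U, hU⟩ : ∃ U : {U : TopologicalSpace.Opens (PrimeSpectrum C) // Q ∈ U},
      topologicalKrullDim (U.1 : Set (PrimeSpectrum C)) ≤ (e : WithBot ℕ∞) := by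
    by_contra hne
    simp only [not_exists, not_le] at hne
    have h1 : ((e + 1 : ℕ) : WithBot ℕ∞) ≤ FlatMor.localDim (PrimeSpectrum C) Q := le_iInf fun U => by
      have h := hne U
      revert h
      generalize topologicalKrullDim (U.1 : Set (PrimeSpectrum C)) = v
      intro h
      induction v using WithBot.recBotCoe with
      | bot => exact absurd h not_lt_bot
      | coe v =>
        refine WithBot.coe_le_coe.2 ?_
        have h' : (e : ℕ∞) < v := WithBot.coe_lt_coe.1 h
        exact_mod_cast Order.add_one_le_of_lt h'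
    rw [he] at h1
    have : e + 1 ≤ e := by exact_mod_cast h1
    omega
  obtain ⟨_, ⟨g, rfl⟩, hgQ, hg⟩ := PrimeSpectrum.isTopologicalBasis_basic_opens.exists_subset_of_mem_open
    (show Q ∈ {P : PrimeSpectrum C | LocCoh.IsCohenMacaulayLocalRing (Localization.AtPrime P.asIdeal)} ∩
      (U.1 : Set (PrimeSpectrum C)) from ⟨hCM, U.2⟩) ((isOpen_cmLocus hW).inter U.1.2)
  obtain ⟨M, hQM, hM, hgM⟩ : ∃ M : Ideal C, Q.asIdeal ≤ M ∧ M.IsMaximal ∧ g ∉ M := by
    by_contra hc
    simp only [not_exists, not_and, not_not] at hc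
    refine hgQ ?_
    rw [← (IsJacobsonRing.out (R := C) inferInstance Q.2.isRadical : Q.asIdeal.jacobson = Q.asIdeal)]
    exact Submodule.mem_sInf.2 fun M hM => hc M hM.1 hM.2
  haveI := hM
  let P : PrimeSpectrum C := ⟨M, hM.isPrime⟩
  obtain ⟨hPcm, hPU⟩ := hg (show P ∈ (PrimeSpectrum.basicOpen g : Set (PrimeSpectrum C)) from hgM)
  obtain ⟨r, hr⟩ := DimFormulaLib.exists_nat_trdeg_quotient k C M
  obtain ⟨a, -, hl, hinf⟩ := DimFormulaLib.localDim_eq_height_add k C P r hr
  have hdim : ringKrullDim (Localization.AtPrime M) = ((a + r : ℕ) : WithBot ℕ∞) := by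
    rw [← hinf]
    refine le_antisymm (le_iInf fun m => ?_) (iInf_le_of_le ⟨M, hM, le_rfl⟩ le_rfl)
    obtain ⟨m, hm, hMm⟩ := m
    obtain rfl : M = m := hM.eq_of_le hm.ne_top hMm
    exact le_rfl
  have hle : a + r ≤ e := by
    have h1 : FlatMor.localDim (PrimeSpectrum C) P ≤ (e : WithBot ℕ∞) := (iInf_le _ ⟨U.1, hPU⟩).trans hU
    rw [hl] at h1
    exact_mod_cast h1
  have hge : e ≤ a + r := by
    have h1 : FlatMor.localDim (PrimeSpectrum C) Q ≤ FlatMor.localDim (PrimeSpectrum C) P :=
      le_iInf fun V => iInf_le_of_le ⟨V.1, ((PrimeSpectrum.le_iff_specializes Q P).1 hQM).mem_open V.1.2 V.2⟩ le_rfl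
    rw [hl, he] at h1
    exact_mod_cast h1
  haveI := subsingleton_of_cm_maximal hψ adj M hPcm (a + r) hdim i (by omega)
  haveI : Module.Finite C (Dual.HD C (W Rψ) i) := hW.finite_cohomology i
  refine Module.notMem_support_iff.2 inferInstance (show P ∈ Module.support C (Dual.HD C (W Rψ) i) from ?_)
  exact Module.mem_support_mono hQM hQi

end Groth.Agent.RelDualCMLib
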