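import Groth.Agent.LocFlat.Basic
import Groth.Agent.CAlgBasics.FlatAux

/-!
# A complex of flat modules whose closed fibre has one cohomology module
-/

set_option autoImplicit false
set_option linter.style.haveILetI false
set_option linter.unusedSectionVars false

universe u

open IsLocalRing TensorProduct

noncomputable section

namespace Groth.Agent.RelDualCMLib

variable {R S : Type u} [CommRing R] [CommRing S] [Algebra R S] [IsLocalRing R]

section Mu

variable (R) (M : Type u) [AddCommGroup M] [Module R M]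

/-- Multiplication by the maximal ideal. -/
def mu : M ⊗[R] (maximalIdeal R) →ₗ[R] M :=
  (TensorProduct.rid R M).toLinearMap ∘ₗ (maximalIdeal R).subtype.lTensor M

theorem mu_tmul (x : M) (a : maximalIdeal R) : mu R M (x ⊗ₜ[R] a) = (a : R) • x := by
  simp [mu]

theorem injective_mu [Module.Flat R M] : Function.Injective (mu R M) :=
  (TensorProduct.rid R M).injective.comp
    (Module.Flat.lTensor_preserves_injective_linearMap _ (Submodule.injective_subtype _))

theorem mem_range_mu_iff (x : M) : x ∈ LinearMap.range (mu R M) ↔ x ∈ maximalIdeal R • (⊤ : Submodule R M) := by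
  constructor
  · rintro ⟨t, rfl⟩
    induction t using TensorProduct.induction_on with
    | zero => rw [map_zero]; exact zero_mem _
    | tmul y a => rw [mu_tmul]; exact Submodule.smul_mem_smul a.2 trivial
    | add y z hy hz => rw [map_add]; exact add_mem hy hz
  · intro h
    induction h using Submodule.smul_induction_on' with
    | smul a ha y _ => exact ⟨y ⊗ₜ[R] ⟨a, ha⟩, mu_tmul R M y _⟩
    | add y _ z _ hy hz => exact add_mem hy hz

variable {M} {N : Type u} [AddCommGroup N] [Module R N]

theorem mu_natural (g : M →ₗ[R] N) (t : M ⊗[R] (maximalIdeal R)) :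
    mu R N (g.rTensor _ t) = g (mu R M t) := by
  induction t using TensorProduct.induction_on with
  | zero => simp
  | tmul y a => rw [LinearMap.rTensor_tmul, mu_tmul, mu_tmul, map_smul]
  | add y z hy hz => rw [map_add, map_add, map_add, map_add, hy, hz]

end Mu

/-- Membership in the extended maximal ideal times a module. -/
theorem mem_map_smul_top_iff {M : Type u} [AddCommGroup M] [Module R M] [Module S M] [IsScalarTower R S M] (x : M) :
    x ∈ (maximalIdeal R).map (algebraMap R S) • (⊤ : Submodule S M) ↔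
      x ∈ maximalIdeal R • (⊤ : Submodule R M) := by
  constructor
  · intro h
    induction h using Submodule.smul_induction_on' with
    | smul a ha y _ =>
      refine Submodule.span_induction (fun c hc => ?_) ?_ (fun c e _ _ hc he => ?_) (fun s c _ hc => ?_) ha (p := fun c _ =>
        ∀ y : M, c • y ∈ maximalIdeal R • (⊤ : Submodule R M)) y
      · obtain ⟨r, hr, rfl⟩ := hc
        intro y
        rw [algebraMap_smul]
        exact Submodule.smul_mem_smul hr trivial
      · intro y; rw [zero_smul]; exact zero_mem _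
      · intro y; rw [add_smul]; exact add_mem (hc y) (he y)
      · intro y; rw [smul_eq_mul, mul_comm, mul_smul]; exact hc _
    | add y _ z _ hy hz => exact add_mem hy hz
  · intro h
    induction h using Submodule.smul_induction_on' with
    | smul a ha y _ =>
      rw [← algebraMap_smul S a y]
      exact Submodule.smul_mem_smul (Ideal.mem_map_of_mem _ ha) trivial
    | add y _ z _ hy hz => exact add_mem hy hz

variable {L : ℤ → Type u} [∀ i, AddCommGroup (L i)] [∀ i, Module R (L i)] [∀ i, Module S (L i)]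
  [∀ i, IsScalarTower R S (L i)] (d : ∀ i : ℤ, L i →ₗ[S] L (i + 1))

/-- The cycles modulo the boundaries. -/
abbrev Hom' (j : ℤ) : Type u :=
  LinearMap.ker (d (j + 1)) ⧸ (LinearMap.range (d j)).comap (LinearMap.ker (d (j + 1))).subtype

/-- Exactness modulo the maximal ideal of the base. -/
def ExMod (j : ℤ) : Prop :=
  ∀ z : L (j + 1), d (j + 1) z ∈ maximalIdeal R • (⊤ : Submodule R (L (j + 1 + 1))) →
    ∃ w : L j, z - d j w ∈ maximalIdeal R • (⊤ : Submodule R (L (j + 1)))

variable (hfl : ∀ i, Module.Flat R (L i))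
include hfl

theorem flat_ker {i : ℤ} (h : Module.Flat R (LinearMap.range (d i))) : Module.Flat R (LinearMap.ker (d i)) := by
  haveI := hfl i
  let g : L i →ₗ[R] LinearMap.range (d i) := ((d i).rangeRestrict).restrictScalars R
  let f : LinearMap.ker (d i) →ₗ[R] L i := (LinearMap.ker (d i)).subtype.restrictScalars R
  refine CAlgBasics.flat_ker_of_exact (f := f) (g := g) Subtype.val_injective (fun x => ?_)
    (d i).surjective_rangeRestrict
  exact ⟨fun hx => ⟨⟨x, LinearMap.mem_ker.2 (congrArg Subtype.val hx)⟩, rfl⟩, fun ⟨y, hy⟩ => by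
    subst hy; exact Subtype.ext (LinearMap.mem_ker.1 y.2)⟩

/-- If the image is flat, cycles divisible by the maximal ideal are divisible as cycles. -/
theorem mem_smul_ker {i : ℤ} (h : Module.Flat R (LinearMap.range (d i))) (z : LinearMap.ker (d i))
    (hz : (z : L i) ∈ maximalIdeal R • (⊤ : Submodule R (L i))) :
    z ∈ maximalIdeal R • (⊤ : Submodule R (LinearMap.ker (d i))) := by
  obtain ⟨η, hη⟩ := (mem_range_mu_iff R (L i) _).2 hz
  let g : L i →ₗ[R] LinearMap.range (d i) := ((d i).rangeRestrict).restrictScalars R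
  let f : LinearMap.ker (d i) →ₗ[R] L i := (LinearMap.ker (d i)).subtype.restrictScalars R
  have hex : Function.Exact f g := fun x => ⟨fun hx => ⟨⟨x, LinearMap.mem_ker.2 (congrArg Subtype.val hx)⟩, rfl⟩,
    fun ⟨y, hy⟩ => by subst hy; exact Subtype.ext (LinearMap.mem_ker.1 y.2)⟩
  have h0 : g.rTensor _ η = 0 := by
    apply injective_mu R (LinearMap.range (d i))
    rw [mu_natural, hη, map_zero]
    exact (hex _).2 ⟨z, rfl⟩
  obtain ⟨ζ, rfl⟩ := (rTensor_exact (maximalIdeal R) hex (d i).surjective_rangeRestrict η).1 h0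
  rw [← mem_range_mu_iff]
  refine ⟨ζ, ?_⟩
  rw [mu_natural] at hη
  exact Subtype.ext hη

/-- One step of the descending induction. -/
theorem subsingleton_hom_of_exMod [IsLocalRing S] [IsLocalHom (algebraMap R S)] (hd : ∀ i x, d (i + 1) (d i x) = 0)
    (j : ℤ) (h : Module.Flat R (LinearMap.range (d (j + 1)))) (hex : ExMod (R := R) d j)
    [Module.Finite S (Hom' d j)] : Subsingleton (Hom' d j) := by
  have htop : (⊤ : Submodule S (Hom' d j)) ≤ (maximalIdeal R).map (algebraMap R S) • ⊤ := by
    intro q _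
    obtain ⟨z, rfl⟩ := Submodule.Quotient.mk_surjective _ q
    obtain ⟨w, hw⟩ := hex z (by rw [LinearMap.mem_ker.1 z.2]; exact zero_mem _)
    let b : LinearMap.ker (d (j + 1)) := ⟨d j w, LinearMap.mem_ker.2 (hd j w)⟩
    have hq : (Submodule.Quotient.mk z : Hom' d j) = Submodule.Quotient.mk (z - b) :=
      (Submodule.Quotient.eq _).2 (by simp [b])
    rw [hq, mem_map_smul_top_iff]
    have hmem := mem_smul_ker d hfl h (z - b) hw
    let π : LinearMap.ker (d (j + 1)) →ₗ[R] Hom' d j :=
      ((LinearMap.range (d j)).comap (LinearMap.ker (d (j + 1))).subtype).mkQ.restrictScalars R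
    refine Submodule.smul_top_le_comap_smul_top _ π hmem
  have := Submodule.eq_bot_of_le_smul_of_le_jacobson_bot _ (⊤ : Submodule S (Hom' d j))
    Module.Finite.fg_top htop LocFlat.map_le_jacobson
  exact (Submodule.subsingleton_iff S).1 (subsingleton_of_bot_eq_top this.symm)

theorem flat_range_of_subsingleton (hd : ∀ i x, d (i + 1) (d i x) = 0)
    (j : ℤ) (h : Module.Flat R (LinearMap.range (d (j + 1)))) [Subsingleton (Hom' d j)] :
    Module.Flat R (LinearMap.range (d j)) := by
  have he : LinearMap.range (d j) = LinearMap.ker (d (j + 1)) := le_antisymm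
    (by rintro _ ⟨x, rfl⟩; exact LinearMap.mem_ker.2 (hd j x)) fun z hz => by
      exact (Submodule.Quotient.mk_eq_zero ((LinearMap.range (d j)).comap (LinearMap.ker (d (j + 1))).subtype)
        (x := ⟨z, hz⟩)).1 (Subsingleton.elim _ _)
  haveI := flat_ker d hfl h
  exact Module.Flat.of_linearEquiv ((LinearEquiv.ofEq _ _ he).restrictScalars R)

/-- At the special degree the cohomology is flat. -/
theorem flat_hom [IsLocalRing S] [IsLocalHom (algebraMap R S)] [IsNoetherianRing R] [IsNoetherianRing S]
    (hd : ∀ i x, d (i + 1) (d i x) = 0)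
    (k : ℤ) (h : Module.Flat R (LinearMap.range (d (k + 1 + 1)))) (hex : ExMod (R := R) d k)
    [Module.Finite S (Hom' d (k + 1))] : Module.Flat R (Hom' d (k + 1)) := by
  refine LocFlat.flat_of_maximalIdeal (S := S) ?_
  haveI := flat_ker d hfl h
  suffices hmu : Function.Injective (mu R (Hom' d (k + 1))) from
    Function.Injective.of_comp (f := TensorProduct.rid R _) hmu
  let π : LinearMap.ker (d (k + 1 + 1)) →ₗ[R] Hom' d (k + 1) :=
    ((LinearMap.range (d (k + 1))).comap (LinearMap.ker (d (k + 1 + 1))).subtype).mkQ.restrictScalars R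
  have hπ : Function.Surjective π := Submodule.mkQ_surjective _
  rw [injective_iff_map_eq_zero]
  intro ξ hξ
  obtain ⟨η, rfl⟩ := LinearMap.rTensor_surjective (maximalIdeal R) hπ ξ
  rw [mu_natural] at hξ
  obtain ⟨x, hx⟩ := (Submodule.Quotient.mk_eq_zero _).1 hξ
  have hxm : d (k + 1) x ∈ maximalIdeal R • (⊤ : Submodule R (L (k + 1 + 1))) := by
    rw [hx]
    exact Submodule.smul_top_le_comap_smul_top _ ((LinearMap.ker (d (k + 1 + 1))).subtype.restrictScalars R)
      ((mem_range_mu_iff R _ _).1 ⟨η, rfl⟩)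
  obtain ⟨w, hw⟩ := hex x hxm
  obtain ⟨θ, hθ⟩ := (mem_range_mu_iff R _ _).2 hw
  let b : L (k + 1) →ₗ[R] LinearMap.ker (d (k + 1 + 1)) :=
    ((d (k + 1)).codRestrict _ fun y => LinearMap.mem_ker.2 (hd _ y)).restrictScalars R
  have hη : η = b.rTensor _ θ := by
    apply injective_mu R (LinearMap.ker (d (k + 1 + 1)))
    rw [mu_natural R b, hθ]
    refine Subtype.ext (hx.symm.trans ?_)
    show d (k + 1) x = d (k + 1) (x - d k w)
    rw [map_sub, hd, sub_zero]
  rw [hη, ← LinearMap.rTensor_comp_apply]
  have h0 : π ∘ₗ b = 0 := LinearMap.ext fun y => (Submodule.Quotient.mk_eq_zero _).2 ⟨y, rfl⟩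
  rw [h0, LinearMap.rTensor_zero, LinearMap.zero_apply]

theorem flat_range_of_flat_hom (hd : ∀ i x, d (i + 1) (d i x) = 0)
    (j : ℤ) (h : Module.Flat R (LinearMap.range (d (j + 1)))) [Module.Flat R (Hom' d j)] :
    Module.Flat R (LinearMap.range (d j)) := by
  haveI := flat_ker d hfl h
  have hle : LinearMap.range (d j) ≤ LinearMap.ker (d (j + 1)) := by
    rintro _ ⟨x, rfl⟩; exact LinearMap.mem_ker.2 (hd j x)
  let f : LinearMap.range (d j) →ₗ[R] LinearMap.ker (d (j + 1)) :=
    (Submodule.inclusion hle).restrictScalars R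
  let g : LinearMap.ker (d (j + 1)) →ₗ[R] Hom' d j :=
    ((LinearMap.range (d j)).comap (LinearMap.ker (d (j + 1))).subtype).mkQ.restrictScalars R
  refine CAlgBasics.flat_ker_of_exact (f := f) (g := g) (Submodule.inclusion_injective hle) (fun z => ?_)
    (Submodule.mkQ_surjective _)
  exact (Submodule.Quotient.mk_eq_zero _).trans ⟨fun hz => ⟨⟨_, hz⟩, rfl⟩, fun ⟨y, hy⟩ => by subst hy; exact y.2⟩

/-- A complex of flat modules, bounded above, with finite cohomology and with the closed fibre exact
outside one degree has one cohomology module, which is flat. -/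
theorem concentrated_of_exMod [IsLocalRing S] [IsLocalHom (algebraMap R S)] [IsNoetherianRing R] [IsNoetherianRing S]
    (hd : ∀ i x, d (i + 1) (d i x) = 0) (b : ℤ) (hb : ∀ i, b < i → Subsingleton (L i))
    (hfin : ∀ j, Module.Finite S (Hom' d j)) (m : ℤ) (hex : ∀ j, j + 1 ≠ m → ExMod (R := R) d j) :
    (∀ j, j + 1 ≠ m → Subsingleton (Hom' d j)) ∧ ∀ j, j + 1 = m → Module.Flat R (Hom' d j) := by
  have step : ∀ j, Module.Flat R (LinearMap.range (d (j + 1))) →
      (j + 1 ≠ m → Subsingleton (Hom' d j)) ∧ (j + 1 = m → Module.Flat R (Hom' d j)) ∧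
        Module.Flat R (LinearMap.range (d j)) := by
    intro j hj
    by_cases hm : j + 1 = m
    · obtain ⟨k, rfl⟩ : ∃ k, j = k + 1 := ⟨j - 1, by omega⟩
      haveI := hfin (k + 1)
      haveI := flat_hom d hfl hd k hj (hex k (by omega))
      exact ⟨fun h => absurd hm h, fun _ => inferInstance, flat_range_of_flat_hom d hfl hd _ hj⟩
    · haveI := hfin j
      haveI := subsingleton_hom_of_exMod d hfl hd j hj (hex j hm)
      exact ⟨fun _ => inferInstance, fun h => absurd h hm, flat_range_of_subsingleton d hfl hd j hj⟩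
  have key : ∀ (n : ℕ) (j : ℤ), b ≤ j + n → Module.Flat R (LinearMap.range (d j)) := by
    intro n
    induction n with
    | zero =>
      intro j hj
      haveI := hb (j + 1) (by omega)
      infer_instance
    | succ n ih => exact fun j hj => (step j (ih (j + 1) (by omega))).2.2
  have all : ∀ j, Module.Flat R (LinearMap.range (d j)) := fun j => key (b - j).toNat j (by omega)
  exact ⟨fun j => (step j (all (j + 1))).1, fun j => (step j (all (j + 1))).2.1⟩

omit hfl in
/-- A divisible element of the kernel of a surjection onto a flat module is divisible in the kernel. -/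
theorem exists_mu_eq_of_exact {M₁ M₂ M₃ : Type u} [AddCommGroup M₁] [Module R M₁] [AddCommGroup M₂] [Module R M₂]
    [AddCommGroup M₃] [Module R M₃] [Module.Flat R M₃] (f : M₁ →ₗ[R] M₂) (g : M₂ →ₗ[R] M₃)
    (hex : Function.Exact f g) (hg : Function.Surjective g) {x : M₂} (hx : g x = 0)
    (hm : x ∈ maximalIdeal R • (⊤ : Submodule R M₂)) : ∃ ζ, f (mu R M₁ ζ) = x := by
  obtain ⟨η, hη⟩ := (mem_range_mu_iff R M₂ _).2 hm
  have h0 : g.rTensor _ η = 0 := by
    apply injective_mu R M₃
    rw [mu_natural, hη, map_zero, hx]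
  obtain ⟨ζ, rfl⟩ := (rTensor_exact (maximalIdeal R) hex hg η).1 h0
  exact ⟨ζ, by rw [← mu_natural, hη]⟩

/-- Flat cohomology above gives flat boundaries. -/
theorem flat_range_of_flat_above (hd : ∀ i x, d (i + 1) (d i x) = 0) (b : ℤ) (hb : ∀ i, b < i → Subsingleton (L i))
    (j₀ : ℤ) (hH : ∀ i, j₀ ≤ i → Module.Flat R (Hom' d i)) :
    ∀ (n : ℕ) (j : ℤ), j₀ ≤ j → b ≤ j + n → Module.Flat R (LinearMap.range (d j)) := by
  intro n
  induction n with
  | zero =>
    intro j _ hj
    haveI := hb (j + 1) (by omega)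
    infer_instance
  | succ n ih =>
    intro j hj₀ hj
    haveI := hH j hj₀
    exact flat_range_of_flat_hom d hfl hd j (ih (j + 1) (by omega) (by omega))

/-- Flat cohomology above and no cohomology give exactness on the closed fibre. -/
theorem exMod_of_flat_above (hd : ∀ i x, d (i + 1) (d i x) = 0) (b : ℤ) (hb : ∀ i, b < i → Subsingleton (L i))
    (j : ℤ) (hH : ∀ i, j < i → Module.Flat R (Hom' d i)) [Subsingleton (Hom' d j)] : ExMod (R := R) d j := by
  have hr : Module.Flat R (LinearMap.range (d (j + 1 + 1))) :=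
    flat_range_of_flat_above d hfl hd b hb (j + 1 + 1) (fun i hi => hH i (by omega)) (b - (j + 1 + 1)).toNat _ le_rfl
      (by omega)
  intro z hz
  haveI := hH (j + 1) (by omega)
  let y : LinearMap.ker (d (j + 1 + 1)) := ⟨d (j + 1) z, LinearMap.mem_ker.2 (hd _ z)⟩
  have hy := mem_smul_ker d hfl hr y hz
  let f : L (j + 1) →ₗ[R] LinearMap.ker (d (j + 1 + 1)) :=
    ((d (j + 1)).codRestrict _ fun x => LinearMap.mem_ker.2 (hd _ x)).restrictScalars R
  let g : LinearMap.ker (d (j + 1 + 1)) →ₗ[R] Hom' d (j + 1) :=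
    ((LinearMap.range (d (j + 1))).comap (LinearMap.ker (d (j + 1 + 1))).subtype).mkQ.restrictScalars R
  have hex : Function.Exact f g := fun x => (Submodule.Quotient.mk_eq_zero _).trans
    ⟨fun ⟨w, hw⟩ => ⟨w, Subtype.ext hw⟩, fun ⟨w, hw⟩ => ⟨w, congrArg Subtype.val hw⟩⟩
  obtain ⟨ζ, hζ⟩ := exists_mu_eq_of_exact f g hex (Submodule.mkQ_surjective _) (x := y)
    ((Submodule.Quotient.mk_eq_zero _).2 ⟨z, rfl⟩) hy
  let c : LinearMap.ker (d (j + 1)) := ⟨z - mu R (L (j + 1)) ζ, LinearMap.mem_ker.2 (by
    rw [map_sub, sub_eq_zero]; exact (congrArg Subtype.val hζ).symm)⟩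
  obtain ⟨w, hw⟩ := (Submodule.Quotient.mk_eq_zero _).1
    (Subsingleton.elim (Submodule.Quotient.mk c : Hom' d j) 0)
  refine ⟨w, ?_⟩
  rw [show d j w = z - mu R (L (j + 1)) ζ from hw, sub_sub_cancel]
  exact (mem_range_mu_iff R _ _).1 ⟨ζ, rfl⟩

end Groth.Agent.RelDualCMLib
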