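import Groth.Agent.CMFlatLib.Affine
import Groth.Agent.GorSp.Sch
import Groth.Agent.ASp.GoodAt
import Groth.Agent.ShriekBridge.AffineLine
import Groth.Agent.ShriekBridge.Charts
import Groth.Agent.WittHomLib.Torus
import Groth.Agent.S0341

/-!
# Gorenstein points through quasi-finite maps to affine space
-/

set_option autoImplicit false
set_option linter.style.haveILetI false
set_option linter.unusedSectionVars false
set_option backward.isDefEq.respectTransparency false
set_option maxHeartbeats 1000000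

universe u

open CategoryTheory CategoryTheory.Limits AlgebraicGeometry

noncomputable section

namespace Groth.Agent.RelDualCMLib

open DimFormulaLib CMFlatLib

variable {X Y : Scheme.{u}} {n : ℕ}

/-- At a Cohen–Macaulay point of dimension `n`, a locally quasi-finite map to affine `n`-space is flat. -/
theorem flat_of_isCMAt_of_lqf (f : X ⟶ Y) [LocallyOfFinitePresentation f] {U : X.Opens}
    (g : (U : Scheme.{u}) ⟶ 𝔸(ULift.{u} (Fin n); Y))
    (hg : g ≫ (𝔸(ULift.{u} (Fin n); Y) ↘ Y) = U.ι ≫ f) [LocallyQuasiFinite g] (x : U)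
    (hcm : MoreMor.IsCMAt f (U.ι x)) (hd : FlatMor.fibreDimAt f (U.ι x) = n) : (g.stalkMap x).hom.Flat := by
  obtain ⟨c⟩ := exists_chart (U.ι ≫ f) x
  have hh : (c.j ≫ g) ≫ (𝔸(ULift.{u} (Fin n); Y) ↘ Y) = Spec.map (CommRingCat.ofHom (algebraMap c.A c.B)) ≫ c.i := by
    rw [Category.assoc, hg, c.w]
  obtain ⟨φ, hφ⟩ := exists_eq_comp_theta c.i n (c.j ≫ g) hh
  letI : Algebra (MvPolynomial (Fin n) c.A) c.B := φ.toRingHom.toAlgebra
  haveI : IsScalarTower c.A (MvPolynomial (Fin n) c.A) c.B := .of_algebraMap_eq fun a => (φ.commutes a).symm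
  haveI : LocallyQuasiFinite (Spec.map (CommRingCat.ofHom (algebraMap (MvPolynomial (Fin n) c.A) c.B)) ≫ theta c.i n) := by
    rw [show Spec.map (CommRingCat.ofHom (algebraMap (MvPolynomial (Fin n) c.A) c.B)) ≫ theta c.i n = c.j ≫ g from hφ.symm]
    infer_instance
  haveI : LocallyQuasiFinite (Spec.map (CommRingCat.ofHom (algebraMap (MvPolynomial (Fin n) c.A) c.B))) :=
    LocallyQuasiFinite.of_comp _ (theta c.i n)
  haveI : Algebra.QuasiFinite (MvPolynomial (Fin n) c.A) c.B :=
    RingHom.quasiFinite_algebraMap.1 (HasRingHomProperty.Spec_iff.1 ‹LocallyQuasiFinite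
      (Spec.map (CommRingCat.ofHom (algebraMap (MvPolynomial (Fin n) c.A) c.B)))›)
  haveI hq : Algebra.QuasiFiniteAt (MvPolynomial (Fin n) c.A) c.q.asIdeal := inferInstance
  haveI : c.q.asIdeal.LiesOver (PrimeSpectrum.comap (algebraMap (MvPolynomial (Fin n) c.A) c.B) c.q).asIdeal := ⟨rfl⟩
  let z : ↥(Spec (CommRingCat.of c.B)) := c.q
  have hflat' : Module.Flat (MvPolynomial (Fin n) c.A) (Localization.AtPrime c.q.asIdeal) := by
    letI : Algebra (MvPolynomial (Fin n) c.push.A) c.push.B := φ.toRingHom.toAlgebra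
    haveI : IsScalarTower c.push.A (MvPolynomial (Fin n) c.push.A) c.push.B :=
      .of_algebraMap_eq fun a => (φ.commutes a).symm
    haveI : Algebra.QuasiFiniteAt (MvPolynomial (Fin n) c.push.A) c.push.q.asIdeal := hq
    exact (isCMAt_and_dim_iff c.push).1 ⟨hcm, hd⟩
  have h2 := (stalkMap_comp_right_iff RingHom.Flat.respectsIso _ (theta c.i n) z).2
    ((spec_stalkMap_iff RingHom.Flat.respectsIso (algebraMap (MvPolynomial (Fin n) c.A) c.B) c.q).2
      ((localRingHom_flat_iff _ c.q.asIdeal).2 hflat'))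
  have h1 : ((c.j ≫ g).stalkMap z).hom.Flat := (stalkMap_iff_of_eq (P := @RingHom.Flat) hφ z).2 h2
  rw [stalkMap_comp_left_iff RingHom.Flat.respectsIso c.j g z, show c.j z = x from c.hq] at h1
  exact h1

/-- At a Cohen–Macaulay point of dimension `n`, a map to affine `n`-space quasi-finite at the point is flat. -/
theorem flat_of_isCMAt_of_qf (f : X ⟶ Y) [LocallyOfFinitePresentation f] {U : X.Opens}
    (g : (U : Scheme.{u}) ⟶ 𝔸(ULift.{u} (Fin n); Y))
    (hg : g ≫ (𝔸(ULift.{u} (Fin n); Y) ↘ Y) = U.ι ≫ f) [LocallyOfFiniteType g] (x : U) (hqf : g.QuasiFiniteAt x)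
    (hcm : MoreMor.IsCMAt f (U.ι x)) (hd : FlatMor.fibreDimAt f (U.ι x) = n) : (g.stalkMap x).hom.Flat := by
  let O : (U : Scheme.{u}).Opens := ⟨_, g.isOpen_quasiFiniteAt⟩
  let V : X.Opens := U.ι ''ᵁ O
  have hVU : V ≤ U := by
    rintro _ ⟨y, -, rfl⟩
    exact y.2
  let i := X.homOfLE hVU
  have hi : ∀ v, i v ∈ O := fun v => by
    obtain ⟨y, hy, hyv⟩ := v.2
    have h : U.ι (i v) = U.ι y := by
      rw [← Scheme.Hom.comp_apply, Scheme.homOfLE_ι]
      exact hyv.symm
    rw [U.ι.isOpenEmbedding.injective h]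
    exact hy
  haveI : LocallyQuasiFinite (i ≫ g) := ASp.locallyQuasiFinite_of_forall_quasiFiniteAt _ fun v =>
    Scheme.Hom.quasiFiniteAt_comp_iff_of_isOpenImmersion.2 (hi v)
  let v : V := ⟨U.ι x, x, hqf, rfl⟩
  have hv : i v = x := U.ι.isOpenEmbedding.injective (by
    rw [← Scheme.Hom.comp_apply, Scheme.homOfLE_ι]
    rfl)
  have h := flat_of_isCMAt_of_lqf f (i ≫ g) (by rw [Category.assoc, hg, Scheme.homOfLE_ι_assoc]) v hcm hd
  rw [stalkMap_comp_left_iff RingHom.Flat.respectsIso i g v] at h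
  exact hv ▸ h

/-- The Gorenstein condition through a map to affine space quasi-finite at the point. -/
theorem gorAt_iff_of_qf {S : Scheme.{u}} (f : X ⟶ S) [Flat f] [LocallyOfFinitePresentation f] {d : ℕ} {U : X.Opens}
    (g : (U : Scheme.{u}) ⟶ AffineSpace (ULift.{u} (Fin d)) S)
    (hg : g ≫ (AffineSpace (ULift.{u} (Fin d)) S ↘ S) = U.ι ≫ f) (x : U)
    (hd : Dual3.localFibreDim f (U.ι x) = (d : WithBot ℕ∞)) (hqf : Dual3.QuasiFiniteAt g x) :
    Dual3.IsGorensteinAt f (U.ι x) ↔ Dual3.IsGorensteinAt g x := by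
  let p := AffineSpace (ULift.{u} (Fin d)) S ↘ S
  haveI : Smooth p := WittHomLib.smooth_affineSpace _ S
  haveI : LocallyOfFinitePresentation (g ≫ p) := by rw [hg]; infer_instance
  haveI : LocallyOfFinitePresentation g := FlatLocus.locallyOfFinitePresentation_of_comp g p
  haveI : LocallyOfFiniteType ((g ≫ p).fiberToSpecResidueField ((g ≫ p) x)) :=
    MorphismProperty.pullback_snd _ _ inferInstance
  haveI : IsLocallyNoetherian ((g ≫ p).fiber ((g ≫ p) x)) :=
    LocallyOfFiniteType.isLocallyNoetherian ((g ≫ p).fiberToSpecResidueField ((g ≫ p) x))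
  have hq : g.QuasiFiniteAt x := Scheme.Hom.quasiFiniteAt_iff_isOpen_singleton_asFiber.2 hqf
  have key : (g.stalkMap x).hom.Flat → (Dual3.IsGorensteinAt f (U.ι x) ↔ Dual3.IsGorensteinAt g x) := fun hfl => by
    rw [← GorSp.gorMap_precomp_etale U.ι f x, ← hg, GorSp.gorAt_comp_iff g p x hfl]
    exact and_iff_right (ShriekBridge.isGorensteinMor_of_smooth p _)
  refine ⟨fun h => ?_, fun h => (key h.1).2 h⟩
  refine (key (flat_of_isCMAt_of_qf f g hg x hq ⟨h.1, ?_⟩ ?_)).1 h
  · haveI := h.2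
    exact S0341.result _
  · rw [← ShriekBridge.localFibreDim_eq, hd]

/-- A point of fibre dimension `n` has a neighbourhood locally quasi-finite over affine `n`-space. -/
theorem exists_lqf (f : X ⟶ Y) [LocallyOfFinitePresentation f] (x : X) (hn : FlatMor.fibreDimAt f x = n) :
    ∃ (U : X.Opens) (g : (U : Scheme.{u}) ⟶ 𝔸(ULift.{u} (Fin n); Y)), x ∈ U ∧
      g ≫ (𝔸(ULift.{u} (Fin n); Y) ↘ Y) = U.ι ≫ f ∧ LocallyQuasiFinite g := by
  obtain ⟨c⟩ := exists_chart f x
  haveI := chart_finitePresentation c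
  obtain ⟨g, hg, φ, hqf⟩ := exists_quasiFinite_nhd c.q.asIdeal c.p.asIdeal c.Q c.comap_Q n
    (c.fibreDimAt_eq.symm.trans hn)
  letI := φ.toRingHom.toAlgebra
  haveI : IsScalarTower c.A (MvPolynomial (Fin n) c.A) c.B := .of_algebraMap_eq fun a => (φ.commutes a).symm
  haveI : Algebra.FiniteType (MvPolynomial (Fin n) c.A) c.B :=
    Algebra.FiniteType.of_restrictScalars_finiteType c.A _ _
  haveI := quasiFinite_away g fun P _ hgP => hqf P hgP
  let a : Spec (CommRingCat.of (Localization.Away g)) ⟶ Spec (CommRingCat.of c.B) :=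
    Spec.map (CommRingCat.ofHom (algebraMap c.B (Localization.Away g)))
  haveI : IsOpenImmersion a := IsOpenImmersion.of_isLocalization g
  let b := Spec.map (CommRingCat.ofHom (algebraMap (MvPolynomial (Fin n) c.A) (Localization.Away g)))
  haveI : LocallyQuasiFinite b := HasRingHomProperty.Spec_iff.2 (RingHom.quasiFinite_algebraMap.2 ‹_›)
  let e := (a ≫ c.j).isoOpensRange
  refine ⟨(a ≫ c.j).opensRange, e.inv ≫ b ≫ theta c.i n, ?_, ?_, inferInstance⟩
  · obtain ⟨P, hP⟩ := (PrimeSpectrum.localization_away_comap_range (Localization.Away g) g).ge hg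
    refine ⟨P, ?_⟩
    rw [Scheme.Hom.comp_apply]
    exact (congrArg c.j hP).trans c.hq
  · rw [Category.assoc, Category.assoc, theta_over, Iso.inv_comp_eq, ← Category.assoc e.hom,
      Scheme.Hom.isoOpensRange_hom_ι, Category.assoc, c.w, ← Spec.map_comp_assoc, ← Spec.map_comp_assoc,
      ← CommRingCat.ofHom_comp, ← CommRingCat.ofHom_comp]
    congr 3
    refine RingHom.ext fun r => ?_
    show algebraMap (MvPolynomial (Fin n) c.A) (Localization.Away g) (MvPolynomial.C r) =
      algebraMap c.B (Localization.Away g) (algebraMap c.A c.B r)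
    rw [IsScalarTower.algebraMap_apply (MvPolynomial (Fin n) c.A) c.B (Localization.Away g)]
    exact congrArg _ (φ.commutes r)

end Groth.Agent.RelDualCMLib
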