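import Groth.Agent.RelDualCMLib.Core
import Groth.Agent.RelDualCMLib.Fibre
import Groth.Agent.NilpQuotLib.Basic
import Groth.Agent.ShriekAlgLib.TorBC
import Groth.Agent.ShriekAlgLib.Range
import Groth.Agent.S1783
import Groth.Agent.ShriekAlgLib.Invert

/-!
# The relative dualizing complex at a point where the fibre is Cohen–Macaulay
-/

set_option autoImplicit false
set_option linter.style.haveILetI false
set_option linter.unusedSectionVars false
set_option backward.isDefEq.respectTransparency false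
set_option maxHeartbeats 1000000

universe u

open CategoryTheory CategoryTheory.Limits
open scoped TensorProduct
attribute [local instance] HasDerivedCategory.standard Algebra.TensorProduct.rightAlgebra

noncomputable section

namespace Groth.Agent.RelDualCMLib

open DRingLib DCohLib ShriekAlgLib DualCxLib

variable {R A : Type u} [CommRing R] [CommRing A] [IsNoetherianRing R] [IsNoetherianRing A] [Algebra R A]
  [Module.Flat R A] {n : ℕ} {ψ : MvPolynomial (Fin n) R →ₐ[R] A} (hψ : Function.Surjective ψ)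
  [DRing.HasLBaseChange (algebraMap R (MvPolynomial (Fin n) R))]
  {Rψ : Dual.D (MvPolynomial (Fin n) R) ⥤ Dual.D A} (adj : DRing.restrictD ψ.toRingHom ⊣ Rψ)

/-- The relative dualizing complex. -/
abbrev relOmega (Rψ : Dual.D (MvPolynomial (Fin n) R) ⥤ Dual.D A) : Dual.D A :=
  Dual2.shriekVia n Rψ (Dual.inD R R)

include hψ adj

/-- The derived fibre of the relative dualizing complex is the dualizing complex of the fibre. -/
theorem exists_fibre_W (p : Ideal R) [p.IsPrime] :
    ∃ (N : ℕ) (ψ' : MvPolynomial (Fin N) p.ResidueField →ₐ[p.ResidueField] p.Fiber A) (_ : Function.Surjective ψ')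
      (_ : DRing.HasLBaseChange (algebraMap p.ResidueField (MvPolynomial (Fin N) p.ResidueField)))
      (Rψ' : Dual.D (MvPolynomial (Fin N) p.ResidueField) ⥤ Dual.D (p.Fiber A))
      (_ : DRing.restrictD ψ'.toRingHom ⊣ Rψ') (_ : DRing.HasLBaseChange (algebraMap A (p.Fiber A))),
      Nonempty ((DRing.LBaseChange (algebraMap A (p.Fiber A))).obj (relOmega Rψ) ≅ W Rψ') := by
  haveI : Algebra.FiniteType R A := Algebra.FiniteType.of_surjective ψ hψ
  haveI : Algebra.FiniteType p.ResidueField (p.Fiber A) := inferInstance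
  obtain ⟨N, ψ', hψ'⟩ := Algebra.FiniteType.iff_quotient_mvPolynomial''.1
    (inferInstance : Algebra.FiniteType p.ResidueField (p.Fiber A))
  obtain ⟨Rψ', ⟨adj'⟩⟩ := exists_rightAdjoint ψ'.toRingHom
  haveI hP : DRing.HasLBaseChange (algebraMap p.ResidueField (MvPolynomial (Fin N) p.ResidueField)) :=
    DRingLib.hasLBaseChange _
  haveI hF : DRing.HasLBaseChange (algebraMap A (p.Fiber A)) := DRingLib.hasLBaseChange _
  haveI : DRing.HasLBaseChange (algebraMap R p.ResidueField) := DRingLib.hasLBaseChange _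
  obtain ⟨e⟩ := shriekVia_baseChange_flat R p.ResidueField A n ψ hψ Rψ adj N ψ' hψ' Rψ' adj' (Dual.inD R R)
  obtain ⟨u⟩ := nonempty_lbc_unit_any (algebraMap R p.ResidueField)
  exact ⟨N, ψ', hψ', hP, Rψ', adj', hF, ⟨e ≪≫ ((shiftFunctor (Dual.D (p.Fiber A)) (N : ℤ)).mapIso
    (Rψ'.mapIso ((DRing.LBaseChange _).mapIso u)))⟩⟩

/-- The criterion at a point, in terms of the dualizing complex of the fibre. -/
theorem exists_criterion (q : PrimeSpectrum A) (p : PrimeSpectrum R) (hp : q.asIdeal.comap (algebraMap R A) = p.asIdeal)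
    (Q : PrimeSpectrum (p.asIdeal.Fiber A))
    (hQ : Q.asIdeal.comap (Algebra.TensorProduct.includeRight : A →ₐ[R] p.asIdeal.Fiber A).toRingHom = q.asIdeal) :
    ∃ (N : ℕ) (ψ' : MvPolynomial (Fin N) p.asIdeal.ResidueField →ₐ[p.asIdeal.ResidueField] p.asIdeal.Fiber A)
      (_ : Function.Surjective ψ')
      (_ : DRing.HasLBaseChange (algebraMap p.asIdeal.ResidueField (MvPolynomial (Fin N) p.asIdeal.ResidueField)))
      (Rψ' : Dual.D (MvPolynomial (Fin N) p.asIdeal.ResidueField) ⥤ Dual.D (p.asIdeal.Fiber A))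
      (_ : DRing.restrictD ψ'.toRingHom ⊣ Rψ'),
    (∀ m : ℤ, (∀ i, i ≠ m → Subsingleton (LocalizedModule Q.asIdeal.primeCompl (Dual.HD (p.asIdeal.Fiber A) (W Rψ') i))) →
      (∀ i, i ≠ m → Subsingleton (LocalizedModule q.asIdeal.primeCompl (Dual.HD A (relOmega Rψ) i))) ∧
        Module.Flat R (RestrictScalars R A (LocalizedModule q.asIdeal.primeCompl (Dual.HD A (relOmega Rψ) m)))) ∧
    (∀ i₀ : ℤ, (∀ i, i₀ < i →
        Module.Flat R (RestrictScalars R A (LocalizedModule q.asIdeal.primeCompl (Dual.HD A (relOmega Rψ) i)))) →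
      Subsingleton (LocalizedModule q.asIdeal.primeCompl (Dual.HD A (relOmega Rψ) i₀)) →
        Subsingleton (LocalizedModule Q.asIdeal.primeCompl (Dual.HD (p.asIdeal.Fiber A) (W Rψ') i₀))) ∧
    ∀ i₀ : ℤ, (∀ i, i₀ < i → Subsingleton (LocalizedModule q.asIdeal.primeCompl (Dual.HD A (relOmega Rψ) i))) →
      Subsingleton (LocalizedModule Q.asIdeal.primeCompl (Dual.HD (p.asIdeal.Fiber A) (W Rψ') i₀)) →
        Subsingleton (LocalizedModule q.asIdeal.primeCompl (Dual.HD A (relOmega Rψ) i₀)) := by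
  haveI : q.asIdeal.LiesOver p.asIdeal := ⟨hp.symm⟩
  haveI : Algebra.FiniteType R A := Algebra.FiniteType.of_surjective ψ hψ
  obtain ⟨N, ψ', hψ', hP, Rψ', adj', hF, ⟨eW⟩⟩ := exists_fibre_W hψ adj p.asIdeal
  obtain ⟨e, he⟩ := NilpQuotLib.exists_quotLocal_equiv_mk p.asIdeal q.asIdeal Q.asIdeal hQ
  let F := p.asIdeal.Fiber A
  let S := Localization.AtPrime q.asIdeal
  let L := Localization.AtPrime Q.asIdeal
  let C := S ⧸ p.asIdeal.map (algebraMap R S)
  letI : Algebra F C := (e.symm.toRingHom.comp (algebraMap F L)).toAlgebra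
  haveI : IsScalarTower A F C := .of_algebraMap_eq fun a => by
    show Ideal.Quotient.mk _ (algebraMap A S a) = e.symm (algebraMap F L ((1 : p.asIdeal.ResidueField) ⊗ₜ[R] a))
    rw [← he a, RingEquiv.symm_apply_apply]
  let eF : L ≃ₐ[F] C := AlgEquiv.ofRingEquiv (f := e.symm) fun _ => rfl
  haveI : IsLocalization Q.asIdeal.primeCompl C := IsLocalization.isLocalization_of_algEquiv Q.asIdeal.primeCompl eF
  haveI : DRing.HasLBaseChange (algebraMap A C) := DRingLib.hasLBaseChange _
  haveI : DRing.HasLBaseChange (algebraMap F C) := DRingLib.hasLBaseChange _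
  haveI : IsNoetherianRing F := Algebra.FiniteType.isNoetherianRing p.asIdeal.ResidueField F
  obtain ⟨⟨lo, hlo⟩, hfin⟩ := S1783.result R A n ψ hψ Rψ adj (Dual.inD R R) 0 (fun i hi =>
    subsingleton_HD_inD (ModuleCat.of R R) (i := i) (by omega))
  obtain ⟨hup, -⟩ := shriekVia_range R A n ψ hψ Rψ adj
  have hfin' : ∀ i, Module.Finite A (Dual.HD A (relOmega Rψ) i) := hfin fun i => by
    by_cases hi : i = 0
    · subst hi
      haveI : Module.Finite R ((𝟭 (ModuleCat.{u} R)).obj (ModuleCat.of R R)) := inferInstanceAs (Module.Finite R R)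
      exact Module.Finite.equiv
        ((DerivedCategory.singleFunctorCompHomologyFunctorIso (ModuleCat.{u} R) 0).app (ModuleCat.of R R)).toLinearEquiv.symm
    · haveI := subsingleton_HD_inD (ModuleCat.of R R) (i := i) hi
      infer_instance
  obtain ⟨h₁, h₂, h₃⟩ := fibre_criterion (R := R) (relOmega Rψ) 0 hup hfin' q.asIdeal C
    Ideal.Quotient.mk_surjective
    (by rw [Ideal.Quotient.algebraMap_eq, Ideal.mk_ker, hp])
  obtain ⟨c⟩ := nonempty_lbc_comp' (algebraMap A F) (algebraMap F C) (algebraMap A C) (IsScalarTower.algebraMap_eq A F C).symm (relOmega Rψ)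
  have hE : ∀ i, Subsingleton (Dual.HD C ((DRing.LBaseChange (algebraMap A C)).obj (relOmega Rψ)) i) ↔
      Subsingleton (LocalizedModule Q.asIdeal.primeCompl (Dual.HD F (W Rψ') i)) := fun i => by
    obtain ⟨e₂⟩ := nonempty_HD_lbc Q.asIdeal.primeCompl C (W Rψ') i
    exact ((((DerivedCategory.homologyFunctor (ModuleCat.{u} C) i).mapIso
      (c.symm ≪≫ (DRing.LBaseChange (algebraMap F C)).mapIso eW)).toLinearEquiv.trans
        e₂).toEquiv.trans ((IsLocalizedModule.iso Q.asIdeal.primeCompl (TensorProduct.mk F C (Dual.HD F (W Rψ') i) 1)).symm.toEquiv)).subsingleton_congr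
  exact ⟨N, ψ', hψ', hP, Rψ', adj', fun m h => h₁ m fun i hi => (hE i).2 (h i hi),
    fun i₀ hu hz => (hE i₀).1 (h₂ i₀ hu hz), fun i₀ hu hz => h₃ i₀ hu ((hE i₀).2 hz)⟩

/-- At a point where the fibre is Cohen–Macaulay of local dimension `e` the relative dualizing complex has one
cohomology module, flat over the base, in degree `-e`. -/
theorem concentrated_of_cm (q : PrimeSpectrum A) (p : PrimeSpectrum R) (hp : q.asIdeal.comap (algebraMap R A) = p.asIdeal)
    (Q : PrimeSpectrum (p.asIdeal.Fiber A))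
    (hQ : Q.asIdeal.comap (Algebra.TensorProduct.includeRight : A →ₐ[R] p.asIdeal.Fiber A).toRingHom = q.asIdeal)
    (hCM : LocCoh.IsCohenMacaulayLocalRing (Localization.AtPrime Q.asIdeal)) (e : ℕ)
    (he : FlatMor.localDim (PrimeSpectrum (p.asIdeal.Fiber A)) Q = e) :
    (∀ i, i ≠ -(e : ℤ) → Subsingleton (LocalizedModule q.asIdeal.primeCompl (Dual.HD A (relOmega Rψ) i))) ∧
      Module.Flat R (RestrictScalars R A (LocalizedModule q.asIdeal.primeCompl (Dual.HD A (relOmega Rψ) (-(e : ℤ))))) := by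
  haveI : Algebra.FiniteType R A := Algebra.FiniteType.of_surjective ψ hψ
  haveI : IsNoetherianRing (p.asIdeal.Fiber A) := Algebra.FiniteType.isNoetherianRing p.asIdeal.ResidueField _
  obtain ⟨N, ψ', hψ', hP, Rψ', adj', h₁, -⟩ := exists_criterion hψ adj q p hp Q hQ
  exact h₁ _ fun i hi => subsingleton_of_cm hψ' adj' Q hCM e he i hi

/-- A point with one flat cohomology module has a Cohen–Macaulay fibre; at a closed point of the fibre its
dimension is minus the degree. -/
theorem cm_of_concentrated (q : PrimeSpectrum A) (p : PrimeSpectrum R)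
    (hp : q.asIdeal.comap (algebraMap R A) = p.asIdeal) (Q : PrimeSpectrum (p.asIdeal.Fiber A))
    (hQ : Q.asIdeal.comap (Algebra.TensorProduct.includeRight : A →ₐ[R] p.asIdeal.Fiber A).toRingHom = q.asIdeal)
    (m : ℤ) (h : ∀ i, i ≠ m → Subsingleton (LocalizedModule q.asIdeal.primeCompl (Dual.HD A (relOmega Rψ) i)))
    (hflat : Module.Flat R (RestrictScalars R A (LocalizedModule q.asIdeal.primeCompl (Dual.HD A (relOmega Rψ) m)))) :
    LocCoh.IsCohenMacaulayLocalRing (Localization.AtPrime Q.asIdeal) ∧ (Q.asIdeal.IsMaximal → ∀ e : ℕ, m = -(e : ℤ) →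
      ringKrullDim (Localization.AtPrime Q.asIdeal) = e) := by
  haveI : Algebra.FiniteType R A := Algebra.FiniteType.of_surjective ψ hψ
  haveI : IsNoetherianRing (p.asIdeal.Fiber A) := Algebra.FiniteType.isNoetherianRing p.asIdeal.ResidueField _
  obtain ⟨N, ψ', hψ', hP, Rψ', adj', -, h₂, -⟩ := exists_criterion hψ adj q p hp Q hQ
  have hfl : ∀ i, Module.Flat R (RestrictScalars R A (LocalizedModule q.asIdeal.primeCompl (Dual.HD A (relOmega Rψ) i))) := by
    intro i
    by_cases hi : i = m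
    · exact hi ▸ hflat
    · haveI := h i hi
      haveI : Subsingleton (RestrictScalars R A (LocalizedModule q.asIdeal.primeCompl (Dual.HD A (relOmega Rψ) i))) :=
        ‹Subsingleton (LocalizedModule q.asIdeal.primeCompl (Dual.HD A (relOmega Rψ) i))›
      infer_instance
  have hz : ∀ i, i ≠ m → Subsingleton (LocalizedModule Q.asIdeal.primeCompl (Dual.HD (p.asIdeal.Fiber A) (W Rψ') i)) :=
    fun i hi => h₂ i (fun j _ => hfl j) (h i hi)
  have hW := isDualizing_W hψ' adj'
  refine ⟨(cm_localization_iff hW Q).2 ?_, fun hmax e he => ?_⟩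
  · obtain ⟨i₀, hi₀⟩ := exists_not_zeroAt_unit hW Q.asIdeal
    have hsupp : Q ∈ Module.support (p.asIdeal.Fiber A) (Dual.HD _ (W Rψ') i₀) :=
      (not_zeroAt_iff_mem_support Q).1 ((not_zeroAt_HD_iff hW Q.asIdeal i₀).2 hi₀)
    have huniq : ∀ i, Q ∈ Module.support (p.asIdeal.Fiber A) (Dual.HD _ (W Rψ') i) → i = m := fun i hi => by
      by_contra hne
      exact (Module.notMem_support_iff.2 (hz i hne)) hi
    exact ⟨i₀, hsupp, fun i hi => (huniq i hi).trans (huniq _ hsupp).symm⟩
  · haveI := hmax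
    exact (cm_of_subsingleton_maximal hψ' adj' Q.asIdeal e fun i hi => hz i (by omega)).2

end Groth.Agent.RelDualCMLib
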