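import Groth.Agent.RelDualCMLib.Point
import Groth.Agent.DualCxLib.CoindD
import Groth.Agent.DualCxLib.LocBound
import Groth.Agent.CMCat.Polynomial
import Groth.Agent.S6282
import Groth.Agent.ShriekAlgLib.RelDualizing

/-!
# Cohen–Macaulay fibres and Ext modules
-/

set_option autoImplicit false
set_option linter.style.haveILetI false
set_option linter.unusedSectionVars false
set_option backward.isDefEq.respectTransparency false
set_option maxHeartbeats 1000000

universe u

open CategoryTheory CategoryTheory.Limits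
open scoped TensorProduct
attribute [local instance] HasDerivedCategory.standard

noncomputable section

namespace Groth.Agent.RelDualCMLib

open DRingLib DCohLib ShriekAlgLib DualCxLib

section Dim

variable {k C : Type u} [Field k] [CommRing C] [Algebra k C] [Algebra.FiniteType k C]
include k

/-- If every component has dimension `n`, so has every local dimension. -/
theorem localDim_eq_of_coheight (n : ℕ)
    (h : ∀ P : PrimeSpectrum C, P.asIdeal ∈ minimalPrimes C → Order.coheight P = (n : ℕ∞)) (Q : PrimeSpectrum C) :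
    FlatMor.localDim (PrimeSpectrum C) Q = n := by
  have htr : ∀ (P : PrimeSpectrum C), IsMin P → Algebra.trdeg k (C ⧸ P.asIdeal) = n := fun P hP => by
    obtain ⟨t, ht⟩ := DimFormulaLib.exists_nat_trdeg_quotient k C P.asIdeal
    have h1 := DimFormulaLib.ringKrullDim_eq_trdeg k t ht
    rw [CatLib.ringKrullDim_quotient_eq_coheight, h P (PrimeSpectrum.isMin_iff.1 hP)] at h1
    rw [ht]
    have h2 : n = t := by exact_mod_cast h1
    rw [h2]
  obtain ⟨P, hP, hPQ⟩ := Ideal.exists_minimalPrimes_le (I := (⊥ : Ideal C)) (J := Q.asIdeal) bot_le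
  refine (DimFormulaLib.localDim_bounds k C Q n (fun P' m hmin _ hm => ?_)
    ⟨⟨P, hP.1.1⟩, hPQ, htr _ (PrimeSpectrum.isMin_iff.2 hP)⟩).1
  have : m = n := by exact_mod_cast hm.symm.trans (htr P' hmin)
  exact this.le

/-- If every closed point has dimension `n`, so has every component. -/
theorem coheight_eq_of_maximal_dims (n : ℕ)
    (h : ∀ (m : Ideal C) [m.IsMaximal], ringKrullDim (Localization.AtPrime m) = n) (P : PrimeSpectrum C)
    (hP : P.asIdeal ∈ minimalPrimes C) : Order.coheight P = (n : ℕ∞) := by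
  obtain ⟨t, ht⟩ := DimFormulaLib.exists_nat_trdeg_quotient k C P.asIdeal
  have hb := (DimFormulaLib.localDim_bounds k C P t (fun P' m hmin hle hm => by
    obtain rfl : P' = P := le_antisymm hle ((PrimeSpectrum.isMin_iff.2 hP) hle)
    have : m = t := by exact_mod_cast hm.symm.trans ht
    exact this.le) ⟨P, le_rfl, ht⟩).2
  obtain ⟨m, hm, hPm⟩ := P.asIdeal.exists_le_maximal P.2.ne_top
  haveI := hm
  haveI : Nonempty {m : Ideal C // m.IsMaximal ∧ P.asIdeal ≤ m} := ⟨⟨m, hm, hPm⟩⟩
  have hnt : (n : WithBot ℕ∞) = (t : WithBot ℕ∞) := by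
    rw [← hb]
    refine le_antisymm (le_iInf fun m' => ?_) ((iInf_le _ ⟨m, hm, hPm⟩).trans (h m).le)
    haveI := m'.2.1
    exact (h m'.1).ge
  have h1 := DimFormulaLib.ringKrullDim_eq_trdeg k t ht
  rw [CatLib.ringKrullDim_quotient_eq_coheight, ← hnt] at h1
  exact_mod_cast h1

end Dim

section Ext

variable {R A : Type u} [CommRing R] [CommRing A] [Algebra R A] {N : ℕ}
  {ψ : MvPolynomial (Fin N) R →ₐ[R] A}
  [DRing.HasLBaseChange (algebraMap R (MvPolynomial (Fin N) R))]
  {Rψ : Dual.D (MvPolynomial (Fin N) R) ⥤ Dual.D A} (adj : DRing.restrictD ψ.toRingHom ⊣ Rψ)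

include adj in
/-- `Ext` against the polynomial ring computes the cohomology of the relative dualizing complex. -/
theorem exists_ext_equiv [Algebra (MvPolynomial (Fin N) R) A]
    (halg : algebraMap (MvPolynomial (Fin N) R) A = ψ.toRingHom) (j : ℕ) (i : ℤ) (hi : (N : ℤ) + i = j) :
    ∃ e : Abelian.Ext (ModuleCat.of (MvPolynomial (Fin N) R) A)
        (ModuleCat.of (MvPolynomial (Fin N) R) (MvPolynomial (Fin N) R)) j ≃+ Dual.HD A (relOmega Rψ) i,
      ∀ (r : MvPolynomial (Fin N) R) y, e (r • y) = ψ r • e y := by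
  let P := MvPolynomial (Fin N) R
  let L := (DRing.LBaseChange (algebraMap R P)).obj (Dual.inD R R)
  obtain ⟨eL⟩ := ShriekAlgLib.nonempty_lbc_unit R P
  haveI : (Dual.inD P P).IsGE 0 :=
    inferInstanceAs (((DerivedCategory.singleFunctor (ModuleCat.{u} P) 0).obj _).IsGE 0)
  obtain ⟨S⟩ := exists_injRep (Dual.inD P P) 0
  obtain ⟨c⟩ := S.nonempty_coindIso A Rψ (halg ▸ adj)
  obtain ⟨e₁, he₁⟩ := S.exists_HK_coext A A (j : ℤ)
  obtain ⟨e₂⟩ := nonempty_HD_equiv_rep (S.coextRep A) (j : ℤ)
  let e₃ : Dual.HD A (DRing.toD (S.coext A)) (j : ℤ) ≃ₗ[A] Dual.HD A (relOmega Rψ) i :=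
    ((DerivedCategory.homologyFunctor (ModuleCat.{u} A) (j : ℤ)).mapIso
        (c ≪≫ Rψ.mapIso eL.symm) ≪≫
      eqToIso (congrArg (fun k => (DerivedCategory.homologyFunctor (ModuleCat.{u} A) k).obj (Rψ.obj L)) hi.symm) ≪≫
      (hdShiftIso A (Rψ.obj L) (N : ℤ) i).symm).toLinearEquiv
  let e₀ := Abelian.Ext.homLinearEquiv (R := P) (X := ModuleCat.of P A) (Y := ModuleCat.of P P) (n := j)
  refine ⟨((e₀.toAddEquiv.trans e₁.symm).trans e₂.toAddEquiv).trans e₃.toAddEquiv, fun r y => ?_⟩
  show e₃ (e₂ (e₁.symm (e₀ (r • y)))) = ψ r • e₃ (e₂ (e₁.symm (e₀ y)))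
  rw [map_smul e₀]
  rw [show ψ r = algebraMap P A r from (congrArg (fun f : P →+* A => f r) halg).symm, ← map_smul e₃, ← map_smul e₂]
  refine congrArg (fun z => e₃ (e₂ z)) (e₁.injective ?_)
  rw [e₁.apply_symm_apply]
  exact ((he₁ r (e₁.symm (e₀ y))).trans (by rw [e₁.apply_symm_apply])).symm

include adj in
/-- The relative dualizing complex lives in degrees at least minus the number of variables. -/
theorem subsingleton_relOmega_of_lt (hψ : Function.Surjective ψ) (i : ℤ) (hi : (N : ℤ) + i < 0) :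
    Subsingleton (Dual.HD A (relOmega Rψ) i) := by
  let P := MvPolynomial (Fin N) R
  letI : Algebra P A := ψ.toRingHom.toAlgebra
  let L := (DRing.LBaseChange (algebraMap R P)).obj (Dual.inD R R)
  obtain ⟨eL⟩ := ShriekAlgLib.nonempty_lbc_unit R P
  haveI : (Dual.inD P P).IsGE 0 :=
    inferInstanceAs (((DerivedCategory.singleFunctor (ModuleCat.{u} P) 0).obj _).IsGE 0)
  obtain ⟨S⟩ := exists_injRep (Dual.inD P P) 0
  obtain ⟨c⟩ := S.nonempty_coindIso A Rψ adj
  obtain ⟨e₁, -⟩ := S.exists_HK_coext A A ((N : ℤ) + i)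
  obtain ⟨e₂⟩ := nonempty_HD_equiv_rep (S.coextRep A) ((N : ℤ) + i)
  let e₃ : Dual.HD A (DRing.toD (S.coext A)) ((N : ℤ) + i) ≃ₗ[A] Dual.HD A (relOmega Rψ) i :=
    ((DerivedCategory.homologyFunctor (ModuleCat.{u} A) ((N : ℤ) + i)).mapIso (c ≪≫ Rψ.mapIso eL.symm) ≪≫
      (hdShiftIso A (Rψ.obj L) (N : ℤ) i).symm).toLinearEquiv
  haveI := subsingleton_HK_inD_of_neg (A := P) A P hi
  exact ((e₁.symm.trans e₂.toAddEquiv).trans e₃.toAddEquiv).symm.toEquiv.subsingleton

end Ext

/-- Components of equal dimension are preserved by isomorphisms. -/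
theorem coheight_congr {C C' : Type u} [CommSemiring C] [CommSemiring C'] (e : C ≃+* C') (n : ℕ∞) :
    (∀ Q : PrimeSpectrum C, Q.asIdeal ∈ minimalPrimes C → Order.coheight Q = n) ↔
      ∀ Q : PrimeSpectrum C', Q.asIdeal ∈ minimalPrimes C' → Order.coheight Q = n := by
  let o := PrimeSpectrum.comapEquiv e
  refine ⟨fun h Q hQ => ?_, fun h Q hQ => ?_⟩
  · rw [← Order.coheight_orderIso o.symm Q]
    exact h _ (PrimeSpectrum.isMin_iff.1 ((o.symm.isMin_apply).2 (PrimeSpectrum.isMin_iff.2 hQ)))
  · rw [← Order.coheight_orderIso o Q]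
    exact h _ (PrimeSpectrum.isMin_iff.1 ((o.isMin_apply).2 (PrimeSpectrum.isMin_iff.2 hQ)))


section Criterion

variable {R A : Type u} [CommRing R] [CommRing A] [IsNoetherianRing R] [IsNoetherianRing A] [Algebra R A]
  [Module.Flat R A] {N : ℕ} {ψ : MvPolynomial (Fin N) R →ₐ[R] A} (hψ : Function.Surjective ψ)
  [DRing.HasLBaseChange (algebraMap R (MvPolynomial (Fin N) R))]
  {Rψ : Dual.D (MvPolynomial (Fin N) R) ⥤ Dual.D A} (adj : DRing.restrictD ψ.toRingHom ⊣ Rψ)

include hψ adj

/-- Cohen–Macaulay fibres of pure dimension `n` in terms of the relative dualizing complex. -/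
theorem cm_fibres_iff (n : ℕ) :
    (∀ p : PrimeSpectrum R, LocCoh.IsCohenMacaulayRing (p.asIdeal.Fiber A) ∧
      ∀ Q : PrimeSpectrum (p.asIdeal.Fiber A), Q.asIdeal ∈ minimalPrimes (p.asIdeal.Fiber A) →
        Order.coheight Q = (n : ℕ∞)) ↔
    ((∀ i : ℤ, i ≠ -(n : ℤ) → Subsingleton (Dual.HD A (relOmega Rψ) i)) ∧
      Module.Flat R (RestrictScalars R A (Dual.HD A (relOmega Rψ) (-(n : ℤ))))) := by
  haveI : Algebra.FiniteType R A := Algebra.FiniteType.of_surjective ψ hψ
  constructor
  · intro h
    have hq : ∀ q : PrimeSpectrum A,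
        (∀ i, i ≠ -(n : ℤ) → Subsingleton (LocalizedModule q.asIdeal.primeCompl (Dual.HD A (relOmega Rψ) i))) ∧
        Module.Flat R (RestrictScalars R A
          (LocalizedModule q.asIdeal.primeCompl (Dual.HD A (relOmega Rψ) (-(n : ℤ))))) := fun q => by
      let p : PrimeSpectrum R := PrimeSpectrum.comap (algebraMap R A) q
      let Q : PrimeSpectrum (p.asIdeal.Fiber A) := PrimeSpectrum.preimageEquivFiber R A p ⟨q, rfl⟩
      have hQ : Q.asIdeal.comap (Algebra.TensorProduct.includeRight : A →ₐ[R] p.asIdeal.Fiber A).toRingHom = q.asIdeal :=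
        congrArg (fun z => z.1.asIdeal) ((PrimeSpectrum.preimageEquivFiber R A p).symm_apply_apply ⟨q, rfl⟩)
      exact concentrated_of_cm hψ adj q p rfl Q hQ ((h p).1.isCohenMacaulayLocalRing_localization _) n
        (localDim_eq_of_coheight (k := p.asIdeal.ResidueField) n (h p).2 Q)
    refine ⟨fun i hi => ?_, ?_⟩
    · rw [← Module.support_eq_empty_iff (R := A), Set.eq_empty_iff_forall_notMem]
      intro q
      rw [Module.notMem_support_iff]
      exact (hq q).1 i hi
    · let M := Dual.HD A (relOmega Rψ) (-(n : ℤ))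
      letI : Module R M := Module.compHom M (algebraMap R A)
      haveI : IsScalarTower R A M := IsScalarTower.of_algebraMap_smul fun _ _ => rfl
      suffices h' : Module.Flat R M from h'
      refine Module.flat_of_isLocalized_maximal A M (fun P hP => LocalizedModule P.primeCompl M)
        (fun P hP => LocalizedModule.mkLinearMap P.primeCompl M) fun P hP => ?_
      haveI := (hq ⟨P, hP.isPrime⟩).2
      exact Module.Flat.of_linearEquiv
        ({ AddEquiv.refl (LocalizedModule P.primeCompl M) with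
            map_smul' := fun r x => (algebraMap_smul A r x).symm } :
          LocalizedModule P.primeCompl M ≃ₗ[R] RestrictScalars R A (LocalizedModule P.primeCompl M))
  · rintro ⟨h1, h2⟩ p
    have hz : ∀ (q : PrimeSpectrum A) (i : ℤ), i ≠ -(n : ℤ) →
        Subsingleton (LocalizedModule q.asIdeal.primeCompl (Dual.HD A (relOmega Rψ) i)) := fun q i hi => by
      haveI := h1 i hi
      infer_instance
    have hfl : ∀ q : PrimeSpectrum A, Module.Flat R (RestrictScalars R A
        (LocalizedModule q.asIdeal.primeCompl (Dual.HD A (relOmega Rψ) (-(n : ℤ))))) := fun q => by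
      let M := Dual.HD A (relOmega Rψ) (-(n : ℤ))
      letI : Module R M := Module.compHom M (algebraMap R A)
      haveI : IsScalarTower R A M := IsScalarTower.of_algebraMap_smul fun _ _ => rfl
      haveI : Module.Flat R M := h2
      haveI : Module.Flat A (Localization.AtPrime q.asIdeal) := IsLocalization.flat _ q.asIdeal.primeCompl
      haveI : Module.Flat R (Localization.AtPrime q.asIdeal ⊗[A] M) :=
        (S6282.result (S' := Localization.AtPrime q.asIdeal) M).1 inferInstance
      exact Module.Flat.of_linearEquiv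
        ({ (LocalizedModule.equivTensorProduct q.asIdeal.primeCompl M).toAddEquiv with
            map_smul' := fun r x => by
              show LocalizedModule.equivTensorProduct q.asIdeal.primeCompl M (algebraMap R A r •
                (show LocalizedModule q.asIdeal.primeCompl M from x)) = _
              rw [← algebraMap_smul (Localization.AtPrime q.asIdeal) (algebraMap R A r), map_smul, algebraMap_smul,
                algebraMap_smul]
              rfl } :
          RestrictScalars R A (LocalizedModule q.asIdeal.primeCompl M) ≃ₗ[R] Localization.AtPrime q.asIdeal ⊗[A] M)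
    haveI : IsNoetherianRing (p.asIdeal.Fiber A) := Algebra.FiniteType.isNoetherianRing p.asIdeal.ResidueField _
    have key : ∀ Q : PrimeSpectrum (p.asIdeal.Fiber A),
        LocCoh.IsCohenMacaulayLocalRing (Localization.AtPrime Q.asIdeal) ∧ (Q.asIdeal.IsMaximal →
          ringKrullDim (Localization.AtPrime Q.asIdeal) = n) := fun Q => by
      let q := ((PrimeSpectrum.preimageEquivFiber R A p).symm Q)
      obtain ⟨ha, hb⟩ := cm_of_concentrated hψ adj q.1 p (congrArg PrimeSpectrum.asIdeal q.2) Q rfl (-(n : ℤ))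
        (hz q.1) (hfl q.1)
      exact ⟨ha, fun hm => hb hm n rfl⟩
    refine ⟨{ isCohenMacaulayLocalRing_localization := fun Q hQ => (key ⟨Q, hQ⟩).1 }, fun Q hQ => ?_⟩
    exact coheight_eq_of_maximal_dims (k := p.asIdeal.ResidueField) n (fun m hm => (key ⟨m, hm.isPrime⟩).2 hm) Q hQ

end Criterion

end Groth.Agent.RelDualCMLib
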