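import Groth.Agent.RelDualCMLib.Point
import Groth.Agent.ShriekBridge.Charts
import Groth.Agent.CMFlatLib.Chart

/-!
# Stalks of the upper shriek of the structure sheaf and flatness over the base
-/

set_option autoImplicit false
set_option linter.style.haveILetI false
set_option linter.unusedSectionVars false
set_option backward.isDefEq.respectTransparency false
set_option maxHeartbeats 1000000

universe u

open CategoryTheory CategoryTheory.Limits AlgebraicGeometry
open scoped TensorProduct
attribute [local instance] HasDerivedCategory.standard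

noncomputable section

namespace Groth.Agent.RelDualCMLib

open DRingLib DCohLib ShriekAlgLib DualCxLib TwistShriek DimFormulaLib ShriekBridge

/-- The chart maps to the stalks commute with the morphism. -/
theorem stalkMap_chartToStalk {X Y : Scheme.{u}} (f : X ⟶ Y) {A B : Type u} [CommRing A] [CommRing B] (φ : A →+* B)
    (i : Spec (CommRingCat.of A) ⟶ Y) [IsOpenImmersion i] (j : Spec (CommRingCat.of B) ⟶ X) [IsOpenImmersion j]
    (w : j ≫ f = Spec.map (CommRingCat.ofHom φ) ≫ i) (q : PrimeSpectrum B)
    (h : f (j q) = i (PrimeSpectrum.comap φ q)) :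
    (f.stalkMap (j q)).hom.comp ((Y.presheaf.stalkSpecializes (specializes_of_eq h)).hom.comp
      (chartToStalk i (PrimeSpectrum.comap φ q))) = (chartToStalk j q).comp φ := by
  let z : ↥(Spec (CommRingCat.of B)) := q
  refine RingHom.ext fun a => (asIso (j.stalkMap z)).commRingCatIsoToRingEquiv.injective ?_
  refine Eq.trans ?_ ((asIso (j.stalkMap z)).commRingCatIsoToRingEquiv.apply_symm_apply
    (DCohMore.toStk (A := CommRingCat.of B) z (φ a))).symm
  let t := chartToStalk i (PrimeSpectrum.comap φ q) a
  show (f.stalkMap (j z) ≫ j.stalkMap z).hom ((Y.presheaf.stalkSpecializes (specializes_of_eq h)).hom t) = _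
  rw [← Scheme.Hom.stalkMap_comp, Scheme.Hom.stalkMap_congr_hom _ _ w z, Scheme.Hom.stalkMap_comp]
  show ((Spec.map (CommRingCat.ofHom φ)).stalkMap z).hom ((i.stalkMap _).hom
    ((Y.presheaf.stalkCongr _).hom.hom ((Y.presheaf.stalkSpecializes (specializes_of_eq h)).hom t))) = _
  have hc : (Y.presheaf.stalkSpecializes (specializes_of_eq h) ≫
      (Y.presheaf.stalkCongr (.of_eq (congrArg (fun g : Spec (CommRingCat.of B) ⟶ Y => g z) w))).hom).hom t = t := by
    rw [TopCat.Presheaf.stalkCongr_hom, TopCat.Presheaf.stalkSpecializes_comp, TopCat.Presheaf.stalkSpecializes_refl]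
    rfl
  refine (congrArg (fun s => ((Spec.map (CommRingCat.ofHom φ)).stalkMap z).hom ((i.stalkMap _).hom s)) hc).trans ?_
  have hi : (i.stalkMap ((Spec.map (CommRingCat.ofHom φ)) z)).hom t =
      DCohMore.toStk (A := CommRingCat.of A) ((Spec.map (CommRingCat.ofHom φ)) z) a :=
    (asIso (i.stalkMap _)).commRingCatIsoToRingEquiv.apply_symm_apply _
  rw [hi]
  exact congrArg (fun g : A →+* _ => g a) (DCohMore.toStk_comp φ z)

variable {X Y : Scheme.{u}} {f : X ⟶ Y}

/-- Flatness over the base at a point of a chart, read on a module computing the stalk. -/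
theorem isFlatOverAt_iff_chart {x : X} (c : Chart f x) (q : PrimeSpectrum c.B) (M : X.Modules)
    {N : Type u} [AddCommGroup N] [Module c.B N] (e : M.presheaf.stalk (c.j q) ≃+ N)
    (he : ∀ (b : c.B) y, e (chartToStalk c.j q b • y) = b • e y) :
    FlatMod.IsFlatOverAt f M (c.j q) ↔ Module.Flat c.A (RestrictScalars c.A c.B N) := by
  let p := PrimeSpectrum.comap (algebraMap c.A c.B) q
  have h : f (c.j q) = c.i p := c.apply_j q
  letI := FlatMod.moduleStalkOver f M (c.j q)
  let σ : Y.presheaf.stalk (c.i p) ≅ Y.presheaf.stalk (f (c.j q)) :=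
    (Y.presheaf.stalkCongr (.of_eq h)).symm
  let α : c.A →+* Y.presheaf.stalk (f (c.j q)) :=
    (Y.presheaf.stalkSpecializes (specializes_of_eq h)).hom.comp (chartToStalk c.i p)
  letI : Algebra c.A (Y.presheaf.stalk (f (c.j q))) := α.toAlgebra
  letI : Algebra c.A (Y.presheaf.stalk (c.i p)) := (chartToStalk c.i p).toAlgebra
  haveI : IsLocalization.AtPrime (Y.presheaf.stalk (c.i p)) p.asIdeal := isLocalization_chartToStalk c.i p
  haveI : IsLocalization.AtPrime (Y.presheaf.stalk (f (c.j q))) p.asIdeal :=
    IsLocalization.isLocalization_of_algEquiv (S := Y.presheaf.stalk (c.i p)) p.asIdeal.primeCompl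
      (AlgEquiv.ofRingEquiv (f := σ.commRingCatIsoToRingEquiv) fun a => rfl)
  letI : Module c.A (M.presheaf.stalk (c.j q)) := Module.compHom _ α
  haveI : IsScalarTower c.A (Y.presheaf.stalk (f (c.j q))) (M.presheaf.stalk (c.j q)) :=
    .of_algebraMap_smul fun _ _ => rfl
  have hs := fun a => congrArg (fun g : c.A →+* _ => g a)
    (stalkMap_chartToStalk f (algebraMap c.A c.B) c.i c.j c.w q h)
  let e' : M.presheaf.stalk (c.j q) ≃ₗ[c.A] RestrictScalars c.A c.B N :=
    { e.trans (RestrictScalars.addEquiv c.A c.B N).symm with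
      map_smul' := fun a y => by
        show (RestrictScalars.addEquiv c.A c.B N).symm (e (f.stalkMap (c.j q) (α a) • y)) =
          (RestrictScalars.addEquiv c.A c.B N).symm (algebraMap c.A c.B a • e y)
        rw [← he]
        exact congrArg (fun s => (RestrictScalars.addEquiv c.A c.B N).symm (e (s • y))) (hs a) }
  refine (Module.flat_iff_of_isLocalization (Y.presheaf.stalk (f (c.j q))) p.asIdeal.primeCompl
    (M.presheaf.stalk (c.j q))).trans ?_
  exact ⟨fun hf => Module.Flat.of_linearEquiv e'.symm, fun hf => Module.Flat.of_linearEquiv e'⟩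

section Shriek

variable [IsNoetherian Y]
  {cp : DEt.Compactification f} [DCoh.HasRpush cp.fbar] {hc : DCoh.RpushPreservesQCoh cp.fbar}
  {a : DCoh.DQCoh Y ⥤ DCoh.DQCoh cp.Xbar} {x : X}
  [∀ (U V : Scheme.{u}) (j : U ⟶ V) [IsOpenImmersion j], PreservesFiniteLimits (Scheme.Modules.restrictFunctor j)]

/-- The stalks of the upper shriek of the structure sheaf, semilinearly. -/
theorem exists_stalk_chart (adj : DCoh.RpushQ cp.fbar hc ⊣ a) (O : DCoh.DQCoh Y)
    (hO : Nonempty (O.obj ≅ DCoh.inD Y (Coh.structureModule Y))) (c : Chart f x) (P : Pres c.A c.B)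
    (q : PrimeSpectrum c.B) (i : ℤ) :
    ∃ e : (DCoh.HD ((Dual3.shriekC cp a).obj O) i).presheaf.stalk (c.j q) ≃+
      LocalizedModule q.asIdeal.primeCompl (Dual.HD c.B P.omega i),
      ∀ (b : c.B) y, e (chartToStalk c.j q b • y) = b • e y := by
  haveI : ∀ (R : CommRingCat.{u}), PreservesFiniteLimits (tilde.functor R) := fun R =>
    TildeD.preservesFiniteLimits_tilde
  haveI := isNoetherianRing_total c
  obtain ⟨e⟩ := nonempty_restrict_chart adj O hO c P
  let S := X.presheaf.stalk (c.j q)
  haveI : DRing.HasLBaseChange (chartToStalk c.j q) := DRingLib.hasLBaseChange _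
  obtain ⟨s⟩ := exists_stalk_HD_equiv c.j e q i
  letI : Algebra c.B S := (chartToStalk c.j q).toAlgebra
  haveI : IsLocalization.AtPrime S q.asIdeal := isLocalization_chartToStalk c.j q
  haveI : DRing.HasLBaseChange (algebraMap c.B S) := ‹_›
  obtain ⟨t⟩ := DualCxLib.nonempty_HD_lbc q.asIdeal.primeCompl S P.omega i
  let v := IsLocalizedModule.linearEquiv q.asIdeal.primeCompl (TensorProduct.mk c.B S (Dual.HD c.B P.omega i) 1)
      (LocalizedModule.mkLinearMap q.asIdeal.primeCompl (Dual.HD c.B P.omega i))
  refine ⟨(s.symm.trans t).toAddEquiv.trans v.toAddEquiv, fun b y => ?_⟩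
  show v ((s.symm.trans t) (algebraMap c.B S b • y)) = b • v ((s.symm.trans t) y)
  rw [← v.map_smul b, LinearEquiv.map_smul (s.symm.trans t) (algebraMap c.B S b) y]
  exact congrArg v (algebraMap_smul S b ((s.symm.trans t) y))

end Shriek

end Groth.Agent.RelDualCMLib
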